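import Mathlib
import Cfsg.Prelude.Def_CaseTheorems
import Cfsg.Prelude.Def_Perm
import Cfsg.Prelude.Def_Sporadic

/-!
# The list for groups whose subgroups of equal prime power order are conjugate
-/

set_option autoImplicit false

namespace Cfsg.Lib.ConjEqual

universe u v

/-- The possible groups with trivial odd core. -/
def Concl (X : Type u) [Group X] : Prop :=
  (IsCyclic X ∧ IsPGroup 2 X) ∨
    Nonempty (X ≃* Cfsg.affineGroup (GaloisField 2 3)) ∨
    Nonempty (X ≃* Cfsg.semiaffineGroup (GaloisField 2 3)) ∨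
    Nonempty (X ≃* Cfsg.semiaffineGroup (GaloisField 2 5)) ∨
    Cfsg.IsJ1 X ∨
    Nonempty (X ≃* Matrix.ProjectiveSpecialLinearGroup (Fin 2) (GaloisField 2 3)) ∨
    Nonempty (X ≃* MulAut (Matrix.ProjectiveSpecialLinearGroup (Fin 2) (GaloisField 2 5))) ∨
    (∃ (p : ℕ) (_ : Fact p.Prime), (p % 8 = 3 ∨ p % 8 = 5) ∧
      (Nonempty (X ≃* Matrix.ProjectiveSpecialLinearGroup (Fin 2) (ZMod p)) ∨
       Nonempty (X ≃* Matrix.ProjectiveSpecialLinearGroup (Fin 2) (GaloisField p 3)) ∨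
       Nonempty (X ≃* Matrix.SpecialLinearGroup (Fin 2) (ZMod p)) ∨
       Nonempty (X ≃* Matrix.SpecialLinearGroup (Fin 2) (GaloisField p 3))))

end Cfsg.Lib.ConjEqual
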