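import Cfsg.Agent.Lib.ConjEqual.Basic
import Cfsg.Agent.Lib.ConjEqual.List
import Cfsg.Agent.Lib.Fusion.Abelian
import Cfsg.Agent.Lib.AbTwo.Embedded
import Cfsg.Agent.Lib.Linear.PSLSmall
import Cfsg.Agent.S4025
import Cfsg.Agent.S0228

/-!
# A normal elementary abelian Sylow two-subgroup
-/

set_option autoImplicit false
set_option linter.unusedSectionVars false
set_option linter.style.haveILetI false

namespace Cfsg.Lib.ConjEqual

open Subgroup Cfsg

universe u

variable {G : Type u} [Group G] [Finite G]

theorem quotient_bot_equiv (N : Subgroup G) [N.Normal] (h : N = ⊥) : Nonempty (G ⧸ N ≃* G) :=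
  ⟨(QuotientGroup.quotientMulEquivOfEq h).trans QuotientGroup.quotientBot⟩

/-- A normal abelian Sylow two-subgroup is self-centralizing without odd core. -/
theorem centralizer_le_of_normal (hO : Cfsg.oddCore G = ⊥) (T : Sylow 2 G) [(T : Subgroup G).Normal]
    (hT : IsMulCommutative (T : Subgroup G)) :
    centralizer ((T : Subgroup G) : Set G) ≤ T := by
  haveI : Fact (Nat.Prime 2) := ⟨Nat.prime_two⟩
  set C := centralizer ((T : Subgroup G) : Set G) with hC
  have hTC : (T : Subgroup G) ≤ C := fun x hx => mem_centralizer_iff.2 fun y hy =>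
    congrArg Subtype.val (hT.is_comm.comm (⟨y, hy⟩ : (T : Subgroup G)) ⟨x, hx⟩)
  let T' : Sylow 2 C := T.subtype hTC
  obtain ⟨P, K, hK, hKP⟩ := Cfsg.Lib.Fusion.hasNormalPComplement_of_normalizer_le_centralizer T'
    (fun n _ => mem_centralizer_iff.2 fun y hy =>
      Subtype.ext (mem_centralizer_iff.1 n.2 (y : G) hy))
  haveI := hK
  have hodd : (Nat.card K).Coprime 2 := by
    rw [Cfsg.Lib.Core.coprime_iff_not_dvd', ← hKP.index_eq_card]
    exact P.not_dvd_index
  have hle : K.map C.subtype ≤ Cfsg.oddCore G := by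
    refine le_trans (map_mono (Cfsg.Lib.Core.le_pPrimeCore (p := 2) hodd)) ?_
    haveI : C.Normal := Subgroup.normal_centralizer
    exact Cfsg.Lib.Core.pPrimeCore_map_le_of_isSubnormal (Subgroup.Normal.isSubnormal inferInstance)
  rw [hO, le_bot_iff, map_eq_bot_iff_of_injective _ C.subtype_injective] at hle
  subst hle
  intro x hx
  have hPtop : (P : Subgroup C) = ⊤ := by
    refine Subgroup.eq_top_of_card_eq _ ?_
    have h := hKP.card_mul
    rw [Subgroup.card_bot, one_mul] at h
    exact h
  have hT'top : (T' : Subgroup C) = ⊤ := by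
    refine Subgroup.eq_top_of_card_eq _ ?_
    rw [T'.card_eq_multiplicity, ← P.card_eq_multiplicity, hPtop, card_top]
  have := (hT'top ▸ Subgroup.mem_top (⟨x, hx⟩ : C) : (⟨x, hx⟩ : C) ∈ (T' : Subgroup C))
  exact this

/-- The affine case. -/
theorem affine (hD : HD G) (hO : Cfsg.oddCore G = ⊥) (T : Sylow 2 G) [(T : Subgroup G).Normal]
    (hel : Cfsg.IsElementaryAbelian 2 (T : Subgroup G)) (h4 : 4 ≤ Nat.card T) : Concl G := by
  classical
  haveI : Fact (Nat.Prime 2) := ⟨Nat.prime_two⟩
  have hCT := centralizer_le_of_normal hO T hel.1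
  obtain ⟨n, hn⟩ := IsPGroup.iff_card.1 T.isPGroup'
  have hidx : Odd (T : Subgroup G).index := by
    rw [Nat.odd_iff]; have := T.not_dvd_index; omega
  -- involutions are not central
  have hnc : ∀ z : G, orderOf z = 2 → z ∉ center G := by
    intro z hz hzc
    have hall : ∀ x : G, orderOf x = 2 → x = z := fun x hx => by
      obtain ⟨g, hg⟩ := hD 2 Nat.prime_two (zpowers z) (zpowers x)
        (IsPGroup.of_card (n := 1) (by rw [Nat.card_zpowers, hz, pow_one]))
        (IsPGroup.of_card (n := 1) (by rw [Nat.card_zpowers, hx, pow_one]))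
        (by rw [Nat.card_zpowers, Nat.card_zpowers, hz, hx])
      have hm : x ∈ (zpowers z).map (MulAut.conj g).toMonoidHom := hg ▸ mem_zpowers x
      obtain ⟨w, hw, rfl⟩ := hm
      have hwc : w ∈ center G := zpowers_le.2 hzc hw
      have hw' : (MulAut.conj g).toMonoidHom w = w := by
        show g * w * g⁻¹ = w
        rw [mem_center_iff.1 hwc g, mul_inv_cancel_right]
      rw [hw'] at hx ⊢
      obtain ⟨i, hi, rfl⟩ := (mem_zpowers_iff_mem_range_orderOf (x := z)).1 hw |> Finset.mem_image.1
      rw [Finset.mem_range, hz] at hi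
      interval_cases i
      · rw [pow_zero, orderOf_one] at hx; omega
      · rw [pow_one]
    have hle : Nat.card T ≤ 2 := by
      refine le_trans (Subgroup.card_le_of_le (K := zpowers z) (fun x hx => ?_))
        (le_of_eq (by rw [Nat.card_zpowers, hz]))
      by_cases h1 : x = 1
      · rw [h1]; exact one_mem _
      rw [hall x (orderOf_eq_prime (hel.2 x hx) h1)]
      exact mem_zpowers z
    omega
  by_cases hn2 : n = 2
  · subst hn2
    have h12 : Nat.card G = 12 := by
      let φ : G →* MulAut (T : Subgroup G) := MulAut.conjNormal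
      have hker : φ.ker = (T : Subgroup G) := by
        refine le_antisymm (fun g hg => hCT (mem_centralizer_iff.2 fun x hx => ?_)) fun g hg => ?_
        · have h : g * x * g⁻¹ = x := congrArg (fun f : MulAut (T : Subgroup G) => ((f ⟨x, hx⟩ : (T : Subgroup G)) : G)) hg
          exact (mul_inv_eq_iff_eq_mul.1 h).symm
        · refine MonoidHom.mem_ker.2 (MulEquiv.ext fun x => Subtype.ext ?_)
          show g * (x : G) * g⁻¹ = x
          rw [show g * (x : G) = x * g from congrArg Subtype.val
            (hel.1.is_comm.comm (⟨g, hg⟩ : (T : Subgroup G)) x), mul_inv_cancel_right]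
      have hd : (T : Subgroup G).index ∣ Nat.card (Equiv.Perm {x : (T : Subgroup G) // x ≠ 1}) := by
        let θ : MulAut (T : Subgroup G) →* Equiv.Perm {x : (T : Subgroup G) // x ≠ 1} :=
          { toFun := fun f => f.toEquiv.subtypeEquiv fun x => (MulEquiv.map_ne_one_iff f).symm
            map_one' := Equiv.ext fun x => Subtype.ext rfl
            map_mul' := fun f g => Equiv.ext fun x => Subtype.ext rfl }
        have hθ : (θ.comp φ).ker = φ.ker := by
          ext g
          refine ⟨fun h => MulEquiv.ext fun x => ?_, fun h => ?_⟩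
          · by_cases hx : x = 1
            · rw [hx, map_one, map_one]
            · exact congrArg (fun e : Equiv.Perm {x : (T : Subgroup G) // x ≠ 1} =>
                ((e ⟨x, hx⟩ : {x : (T : Subgroup G) // x ≠ 1}) : (T : Subgroup G))) h
          · rw [MonoidHom.mem_ker] at h ⊢
            rw [MonoidHom.comp_apply, h, map_one]
        have hi : (T : Subgroup G).index = φ.ker.index := congrArg Subgroup.index hker.symm
        rw [hi, ← hθ, Subgroup.index_ker]
        exact Subgroup.card_subgroup_dvd_card (θ.comp φ).range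
      haveI := Fintype.ofFinite {x : (T : Subgroup G) // x ≠ 1}
      haveI := Fintype.ofFinite (T : Subgroup G)
      have h3 : Nat.card {x : (T : Subgroup G) // x ≠ 1} = 3 := by
        rw [Nat.card_eq_fintype_card, Fintype.card_subtype_compl, Fintype.card_subtype_eq,
          ← Nat.card_eq_fintype_card, hn]
        norm_num
      rw [Nat.card_perm, h3] at hd
      have hd' : (T : Subgroup G).index ∣ 6 := by simpa [Nat.factorial] using hd
      rw [Nat.odd_iff] at hidx
      have h3' : (T : Subgroup G).index ∣ 3 :=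
        (Nat.coprime_two_left.2 (Nat.odd_iff.2 hidx)).symm.dvd_of_dvd_mul_left (show _ ∣ 2 * 3 from hd')
      have hG := (T : Subgroup G).card_mul_index
      rw [hn] at hG
      rcases (Nat.dvd_prime Nat.prime_three).1 h3' with h | h
      · exfalso
        have htop := Subgroup.index_eq_one.1 h
        obtain ⟨z, hz⟩ := exists_prime_orderOf_dvd_card' 2 (G := G)
          ((show 2 ∣ Nat.card T by rw [hn]; norm_num).trans (Subgroup.card_subgroup_dvd_card _))
        refine hnc z hz (mem_center_iff.2 fun g => ?_)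
        exact congrArg Subtype.val (hel.1.is_comm.comm (⟨g, htop ▸ mem_top g⟩ : (T : Subgroup G))
          ⟨z, htop ▸ mem_top z⟩)
      · rw [← hG, h]; norm_num
    haveI : Fact (Nat.Prime 3) := ⟨Nat.prime_three⟩
    obtain ⟨e⟩ := Cfsg.Agent.S0228.result h12 hnc
    obtain ⟨f⟩ := Cfsg.Lib.Linear.Two.psl_equiv_alternating (F := ZMod 3) (n := 4) (by rw [ZMod.card]) (by
      have h := Cfsg.Lib.Linear.Two.card_PSL_two (F := ZMod 3)
      rw [ZMod.card] at h
      norm_num at h
      norm_num [Nat.factorial]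
      omega)
    exact Or.inr (Or.inr (Or.inr (Or.inr (Or.inr (Or.inr (Or.inr
      ⟨3, inferInstance, Or.inl (by norm_num), Or.inl ⟨e.trans f.symm⟩⟩))))))
  have hn3 : 3 ≤ n := by
    by_contra hlt
    have : 2 ^ n ≤ 2 := by
      calc 2 ^ n ≤ 2 ^ 1 := Nat.pow_le_pow_right two_pos (by omega)
        _ = 2 := pow_one 2
    omega
  set N : Subgroup G := normalizer ((T : Subgroup G) : Set G) with hN
  have hNtop : N = ⊤ := normalizer_eq_top (T : Subgroup G)
  let eN : N ≃* G := (MulEquiv.subgroupCongr hNtop).trans Subgroup.topEquiv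
  have hOK : Cfsg.pPrimeCore 2 ↥N = ⊥ := by
    have h := Cfsg.Lib.Core.map_pPrimeCore_equiv (p := 2) eN
    rw [show Cfsg.pPrimeCore 2 G = ⊥ from hO] at h
    exact (map_eq_bot_iff_of_injective _ eN.injective).1 h
  obtain ⟨eQ⟩ := quotient_bot_equiv (Cfsg.pPrimeCore 2 ↥N) hOK
  have hsolG : Group.IsSolvable G := by
    haveI : Group.IsSolvable (T : Subgroup G) := by
      haveI := T.isPGroup'.isNilpotent
      infer_instance
    haveI : Group.IsSolvable (G ⧸ (T : Subgroup G)) :=
      Cfsg.Agent.S0205.result (by rw [← Subgroup.index_eq_card]; exact hidx)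
    exact Group.isSolvable_of_ker_le_range (T : Subgroup G).subtype (QuotientGroup.mk' (T : Subgroup G))
      (by simp)
  haveI : Group.IsSolvable (↥N ⧸ Cfsg.pPrimeCore 2 ↥N) :=
    Group.isSolvable_of_isSolvable_injective (f := (eQ.trans eN).toMonoidHom) (eQ.trans eN).injective
  let e₀ : G ≃* ↥N ⧸ Cfsg.pPrimeCore 2 ↥N := (eQ.trans eN).symm
  rcases Cfsg.Agent.S4025.result (hD 2 Nat.prime_two) T n hn3 hel hn N rfl inferInstance with
    ⟨-, -, h2⟩ | ⟨-, -, ⟨e⟩⟩
  · rcases h2 rfl with he | he
    · exact Or.inr (Or.inr (Or.inl (he.elim fun e => ⟨e₀.trans e⟩)))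
    · exact Or.inr (Or.inl (he.elim fun e => ⟨e₀.trans e⟩))
  · exact Or.inr (Or.inr (Or.inr (Or.inl ⟨e₀.trans e⟩)))

end Cfsg.Lib.ConjEqual
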