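import Cfsg.Agent.S4020
import Cfsg.Agent.Lib.Core.Cores
import Cfsg.Agent.S0205

/-!
# Groups whose subgroups of equal prime power order are conjugate
-/

set_option autoImplicit false
set_option linter.unusedSectionVars false
set_option linter.style.haveILetI false

namespace Cfsg.Lib.ConjEqual

open Subgroup Cfsg

universe u

/-- Subgroups of equal prime power order are conjugate. -/
def HD (G : Type u) [Group G] : Prop :=
  ∀ p : ℕ, p.Prime → ∀ H K : Subgroup G, IsPGroup p H → IsPGroup p K → Nat.card H = Nat.card K →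
    ∃ g : G, K = H.map (MulAut.conj g).toMonoidHom

variable {G : Type u} [Group G] [Finite G]

/-- A `p`-subgroup of a quotient is the image of a `p`-subgroup of the expected order. -/
theorem exists_lift {p : ℕ} [Fact p.Prime] (N : Subgroup G) [N.Normal] {H : Subgroup (G ⧸ N)}
    (hH : IsPGroup p H) :
    ∃ Q : Subgroup G, IsPGroup p Q ∧ Q.map (QuotientGroup.mk' N) = H ∧
      Nat.card Q = p ^ (Nat.card N * Nat.card H).factorization p := by
  set π := QuotientGroup.mk' N with hπ
  set H₀ := H.comap π with hH₀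
  obtain ⟨Q⟩ : Nonempty (Sylow p H₀) := inferInstance
  have hc : Nat.card H₀ = Nat.card N * Nat.card H := by
    rw [hH₀, Cfsg.Lib.Core.card_comap_eq π (QuotientGroup.mk'_surjective N), hπ, QuotientGroup.ker_mk']
  have hQc : Nat.card ((Q : Subgroup H₀).map H₀.subtype) = p ^ (Nat.card N * Nat.card H).factorization p := by
    rw [card_map_of_injective H₀.subtype_injective, Q.card_eq_multiplicity, hc]
  refine ⟨(Q : Subgroup H₀).map H₀.subtype, Q.isPGroup'.map _, ?_, hQc⟩
  have hle : ((Q : Subgroup H₀).map H₀.subtype).map π ≤ H := by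
    rintro _ ⟨_, ⟨x, -, rfl⟩, rfl⟩
    exact x.2
  refine eq_of_le_of_card_ge hle ?_
  -- the kernel of `π` on the Sylow subgroup has order dividing the `p`-part of `|N|`
  set Q' := (Q : Subgroup H₀).map H₀.subtype with hQ'
  have h1 : Nat.card Q' = Nat.card (Q'.map π) * Nat.card (N.subgroupOf Q') := by
    rw [card_eq_card_quotient_mul_card_subgroup (N.subgroupOf Q')]
    congr 1
    let f : Q' →* (Q'.map π) := π.subgroupMap Q'
    have hk : f.ker = N.subgroupOf Q' := by
      ext x
      rw [MonoidHom.mem_ker, Subgroup.mem_subgroupOf, ← QuotientGroup.eq_one_iff (N := N) (x : G)]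
      exact ⟨fun h => congrArg Subtype.val h, fun h => Subtype.ext h⟩
    exact Nat.card_congr ((QuotientGroup.quotientMulEquivOfEq hk.symm).trans
      (QuotientGroup.quotientKerEquivOfSurjective f (π.subgroupMap_surjective Q'))).toEquiv
  have hp0 : p ≠ 0 := (Fact.out : p.Prime).ne_zero
  obtain ⟨a, ha⟩ := IsPGroup.iff_card.1 hH
  obtain ⟨c, hcN⟩ := IsPGroup.iff_card.1
    ((Q.isPGroup'.map H₀.subtype).to_subgroup (N.subgroupOf Q'))
  have hd : p ^ c ∣ p ^ (Nat.card N).factorization p := by
    have h2 : p ^ c ∣ Nat.card N := hcN ▸ (Subgroup.card_comap_dvd_of_injective N Q'.subtype Q'.subtype_injective)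
    exact Nat.pow_dvd_pow _ ((Nat.Prime.pow_dvd_iff_le_factorization Fact.out Nat.card_pos.ne').1 h2)
  rw [hQc, hcN, Nat.factorization_mul Nat.card_pos.ne' Nat.card_pos.ne', Finsupp.add_apply, pow_add,
    ha, (Fact.out : p.Prime).factorization_pow, Finsupp.single_eq_same] at h1
  rw [ha]
  refine Nat.le_of_mul_le_mul_right ?_ (pow_pos (Nat.pos_of_ne_zero hp0) c)
  rw [← h1, mul_comm]
  exact Nat.mul_le_mul_right _ (Nat.le_of_dvd (pow_pos (Nat.pos_of_ne_zero hp0) _) hd)

/-- The property passes to quotients. -/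
theorem HD.quotient (hD : HD G) (N : Subgroup G) [N.Normal] : HD (G ⧸ N) := by
  intro p hp H K hH hK hcard
  haveI := Fact.mk hp
  obtain ⟨Q, hQ, hQH, hQc⟩ := exists_lift N hH
  obtain ⟨R, hR, hRK, hRc⟩ := exists_lift N hK
  obtain ⟨g, hg⟩ := hD p hp Q R hQ hR (by rw [hQc, hRc, hcard])
  refine ⟨QuotientGroup.mk' N g, ?_⟩
  rw [← hRK, ← hQH, hg, Subgroup.map_map, Subgroup.map_map]
  congr 1

theorem HD.of_equiv {H : Type*} [Group H] (hD : HD G) (e : G ≃* H) :
    ∀ p : ℕ, p.Prime → ∀ A B : Subgroup H, IsPGroup p A → IsPGroup p B → Nat.card A = Nat.card B →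
      ∃ g : H, B = A.map (MulAut.conj g).toMonoidHom := by
  intro p hp A B hA hB hc
  have hinj := e.symm.injective
  obtain ⟨g, hg⟩ := hD p hp (A.map e.symm.toMonoidHom) (B.map e.symm.toMonoidHom) (hA.map _) (hB.map _)
    (by rw [card_map_of_injective hinj, card_map_of_injective hinj, hc])
  refine ⟨e g, Subgroup.map_injective (f := e.symm.toMonoidHom) hinj ?_⟩
  rw [hg, Subgroup.map_map, Subgroup.map_map]
  congr 1
  ext x
  simp

/-- A normal subgroup of order divisible by `p` contains every element of order `p`. -/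
theorem mem_of_orderOf (hD : HD G) (N : Subgroup G) [hN : N.Normal] {p : ℕ} (hp : p.Prime)
    (hd : p ∣ Nat.card N) {x : G} (hx : orderOf x = p) : x ∈ N := by
  haveI := Fact.mk hp
  obtain ⟨y, hy⟩ := exists_prime_orderOf_dvd_card' p hd
  rw [← orderOf_coe] at hy
  obtain ⟨g, hg⟩ := hD p hp (zpowers (y : G)) (zpowers x)
    (IsPGroup.of_card (n := 1) (by rw [Nat.card_zpowers, hy, pow_one]))
    (IsPGroup.of_card (n := 1) (by rw [Nat.card_zpowers, hx, pow_one]))
    (by rw [Nat.card_zpowers, Nat.card_zpowers, hy, hx])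
  have hmem : x ∈ (zpowers (y : G)).map (MulAut.conj g).toMonoidHom := hg ▸ mem_zpowers x
  obtain ⟨z, hz, rfl⟩ := hmem
  exact hN.conj_mem z (zpowers_le.2 y.2 hz) g

/-- An elementary abelian Sylow subgroup lies in every normal subgroup of order divisible by `p`. -/
theorem sylow_le_of_dvd (hD : HD G) (N : Subgroup G) [N.Normal] {p : ℕ} [Fact p.Prime]
    (hd : p ∣ Nat.card N) (P : Sylow p G) (hP : IsElementaryAbelian p (P : Subgroup G)) :
    (P : Subgroup G) ≤ N := by
  intro x hx
  by_cases h1 : x = 1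
  · rw [h1]; exact one_mem _
  exact mem_of_orderOf hD N Fact.out hd (orderOf_eq_prime (hP.2 x hx) h1)

/-- The Sylow two-subgroups. -/
theorem two_cases (hD : HD G) (P : Sylow 2 G) :
    IsCyclic P ∨ Cfsg.IsElementaryAbelian 2 (P : Subgroup G) ∨
      Nonempty ((P : Subgroup G) ≃* QuaternionGroup 2) :=
  Cfsg.Agent.S4020.result hD P

/-- A group of odd order without odd normal subgroups is trivial. -/
theorem oddCore_quotient_eq_bot : Cfsg.oddCore (G ⧸ Cfsg.oddCore G) = ⊥ :=
  Cfsg.Lib.Core.pPrimeCore_quotient_eq_bot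

end Cfsg.Lib.ConjEqual
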