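import Cfsg.Agent.Lib.ConjEqual.Basic
import Cfsg.Agent.Lib.ConjEqual.List
import Cfsg.Agent.Lib.Linear.AutPSL.Basic
import Cfsg.Agent.Lib.Linear.AutPSL.Out
import Cfsg.Agent.Lib.Dickson.Solvable
import Cfsg.Agent.Lib.Dickson.Orders
import Cfsg.Agent.Lib.Dickson.CentralizerCard
import Cfsg.Agent.Lib.Dickson.PSLTwo
import Cfsg.Agent.S0813
import Cfsg.Agent.S4025
import Cfsg.Agent.S0252
import Cfsg.Agent.S0253

/-!
# A socle `PSL₂(q)` of odd index
-/

set_option autoImplicit false
set_option linter.unusedSectionVars false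
set_option linter.style.haveILetI false

namespace Cfsg.Lib.ConjEqual

open Subgroup Cfsg Matrix
open Cfsg.Lib

universe u v

section Congr

variable {K L : Type*} [Field K] [Field L]

/-- `SL₂` along an isomorphism of fields. -/
def slTwoCongr (e : K ≃+* L) : SpecialLinearGroup (Fin 2) K ≃* SpecialLinearGroup (Fin 2) L where
  toFun := Matrix.SpecialLinearGroup.map e.toRingHom
  invFun := Matrix.SpecialLinearGroup.map e.symm.toRingHom
  left_inv x := by ext i j; simp
  right_inv x := by ext i j; simp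
  map_mul' := map_mul _

/-- `PSL₂` along an isomorphism of fields. -/
noncomputable def pslTwoCongr (e : K ≃+* L) :
    ProjectiveSpecialLinearGroup (Fin 2) K ≃* ProjectiveSpecialLinearGroup (Fin 2) L :=
  QuotientGroup.congr _ _ (slTwoCongr e) (Cfsg.Lib.Dickson.map_center_mulEquiv _)

end Congr

variable {G : Type u} [Group G] [Finite G]

section Socle

variable (N : Subgroup G) [N.Normal]

theorem conjNormal_coe (n : N) : MulAut.conjNormal (n : G) = MulAut.conj n :=
  MulEquiv.ext fun x => Subtype.ext (by simp)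

theorem conjNormal_injective (hC : centralizer (N : Set G) = ⊥) :
    Function.Injective (MulAut.conjNormal : G →* MulAut N) := by
  refine (injective_iff_map_eq_one _).2 fun g hg => ?_
  have hm : g ∈ centralizer (N : Set G) := mem_centralizer_iff.2 fun n hn => by
    have h := congrArg (fun f : MulAut N => ((f ⟨n, hn⟩ : N) : G)) hg
    simp only [MulAut.one_apply] at h
    rw [MulAut.conjNormal_apply] at h
    exact (mul_inv_eq_iff_eq_mul.1 h).symm
  rwa [hC, mem_bot] at hm

variable {F : Type} [Field F] [Fintype F] (e : ↥N ≃* ProjectiveSpecialLinearGroup (Fin 2) F)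

/-- The group in the automorphisms of the socle's model. -/
noncomputable def toAut : G →* MulAut (ProjectiveSpecialLinearGroup (Fin 2) F) :=
  (MulAut.congr e).toMonoidHom.comp MulAut.conjNormal

theorem toAut_injective (hC : centralizer (N : Set G) = ⊥) : Function.Injective (toAut N e) :=
  (MulAut.congr e).injective.comp (conjNormal_injective N hC)

theorem toAut_coe (n : N) : toAut N e (n : G) = MulAut.conj (e n) := by
  refine MulEquiv.ext fun x => ?_
  show e ((MulAut.conjNormal (n : G) : MulAut N) (e.symm x)) = _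
  rw [conjNormal_coe, MulAut.conj_apply, map_mul, map_mul, map_inv, e.apply_symm_apply, MulAut.conj_apply]

include e in
theorem card_mul (hC : centralizer (N : Set G) = ⊥) :
    N.index * Nat.card (ProjectiveSpecialLinearGroup (Fin 2) F) * (toAut N e).range.index =
      Nat.card (MulAut (ProjectiveSpecialLinearGroup (Fin 2) F)) := by
  rw [← (toAut N e).range.card_mul_index, ← Nat.card_congr
    (MonoidHom.ofInjective (toAut_injective N e hC)).toEquiv, ← N.card_mul_index,
    Nat.card_congr e.toEquiv, mul_comm N.index]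

variable {p : ℕ} [Fact p.Prime] {f : ℕ}

include e in
theorem index_dvd (hC : centralizer (N : Set G) = ⊥) (hodd : Odd N.index) (hf : 1 ≤ f)
    (hF : Fintype.card F = p ^ f) (h4 : 4 ≤ Fintype.card F) : N.index ∣ f := by
  have h := card_mul N e hC
  rw [Cfsg.Agent.S0813.result p f hf hF 2 le_rfl (fun _ => hF ▸ h4), if_pos rfl, one_mul,
    Cfsg.Lib.Dickson.card_PGL_two_eq, ← Cfsg.Lib.Linear.Two.card_PSL_two] at h
  have h' : N.index * (toAut N e).range.index = f * Nat.gcd 2 (Fintype.card F - 1) := by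
    refine Nat.eq_of_mul_eq_mul_left (Nat.card_pos (α := ProjectiveSpecialLinearGroup (Fin 2) F)) ?_
    calc _ = N.index * Nat.card (ProjectiveSpecialLinearGroup (Fin 2) F) * (toAut N e).range.index := by ring
      _ = _ := by rw [h]; ring
  refine Nat.Coprime.dvd_of_dvd_mul_right ?_ (Dvd.intro _ h')
  exact (Nat.coprime_two_right.2 hodd).coprime_dvd_right (Nat.gcd_dvd_left 2 _)

include e in
/-- No element outside the socle induces a field automorphism of order three. -/
theorem index_ne_three (hD : HD G) (hC : centralizer (N : Set G) = ⊥) (hF : Fintype.card F = p ^ 3)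
    (h4 : 4 ≤ Fintype.card F) (h3 : 3 ∣ Nat.card N)
    (hrange : ∀ β : MulAut (ProjectiveSpecialLinearGroup (Fin 2) F), orderOf β = 3 → β ∈ (toAut N e).range) :
    False := by
  haveI : Fact (Nat.Prime 3) := ⟨Nat.prime_three⟩
  obtain ⟨E⟩ := Cfsg.Lib.Linear.AutPSL.exists_galEquiv (p := p) (by norm_num : 1 ≤ 3) hF
  set σ := E.symm (Multiplicative.ofAdd 1) with hσ
  have hσ1 : σ ≠ 1 := by
    rw [hσ, Ne, MulEquiv.map_eq_one_iff]
    intro h
    exact one_ne_zero (α := ZMod 3) (congrArg Multiplicative.toAdd h)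
  have hσ3 : σ ^ 3 = 1 := by
    rw [hσ, ← map_pow]
    rw [← ofAdd_nsmul, nsmul_eq_mul, mul_one, ZMod.natCast_self, ofAdd_zero, map_one]
  set β : MulAut (ProjectiveSpecialLinearGroup (Fin 2) F) := Cfsg.Lib.Linear.AutPSL.fld σ with hβ
  have hβo : orderOf β = 3 := orderOf_eq_prime (by rw [hβ, ← map_pow, hσ3, map_one]) fun h => hσ1
    (Cfsg.Lib.Linear.AutPSL.innd_eq_fld (g := 1) (σ := σ) (by rw [map_one]; exact h.symm)).1
  obtain ⟨g, hg⟩ := hrange β hβo
  have hgo : orderOf g = 3 := by
    rw [← orderOf_injective (toAut N e) (toAut_injective N e hC) g, hg, hβo]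
  have hgN := mem_of_orderOf hD N Nat.prime_three h3 hgo
  rw [toAut_coe N e ⟨g, hgN⟩] at hg
  obtain ⟨s, hs⟩ := QuotientGroup.mk_surjective (e ⟨g, hgN⟩)
  rw [← hs, Cfsg.Lib.Linear.AutPSL.conj_mk] at hg
  exact hσ1 (Cfsg.Lib.Linear.AutPSL.innd_eq_fld hg).1

include e in
/-- The exponent of a noncyclic defining characteristic, from the normalizer of the Sylow subgroup. -/
theorem sylow_normalizer_data (hD : HD G) (hodd : Odd N.index) [CharP F p] (hF : Fintype.card F = p ^ f)
    (hf : 3 ≤ f) :
    ∃ P : Sylow p G, (P : Subgroup G) ≤ N ∧ Cfsg.IsElementaryAbelian p (P : Subgroup G) ∧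
      Nat.card P = p ^ f ∧
      Group.IsSolvable (↥(normalizer ((P : Subgroup G) : Set G)) ⧸
        Cfsg.pPrimeCore p ↥(normalizer ((P : Subgroup G) : Set G))) ∧
      Nat.gcd 2 (Fintype.card F - 1) * Nat.card ↥(N.subgroupOf (normalizer ((P : Subgroup G) : Set G))) =
        Fintype.card F * (Fintype.card F - 1) := by
  have hp : p.Prime := Fact.out
  obtain ⟨P⟩ : Nonempty (Sylow p G) := inferInstance
  obtain ⟨S⟩ : Nonempty (Sylow p (ProjectiveSpecialLinearGroup (Fin 2) F)) := inferInstance
  set j : ProjectiveSpecialLinearGroup (Fin 2) F →* G := N.subtype.comp e.symm.toMonoidHom with hj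
  have hjinj : Function.Injective j := Subtype.val_injective.comp e.symm.injective
  have hjN : ∀ x, j x ∈ N := fun x => (e.symm x).2
  have hS : Nat.card S = p ^ f := (Cfsg.Lib.Dickson.card_sylow_psl p S).trans hF
  obtain ⟨R, hR⟩ := (S.isPGroup'.map j).exists_le_sylow
  -- the Sylow subgroup is not cyclic
  have hel : Cfsg.IsElementaryAbelian p (R : Subgroup G) := by
    have hSexp : ∀ x ∈ (S : Subgroup (ProjectiveSpecialLinearGroup (Fin 2) F)), orderOf x ∣ p := by
      intro x hx
      obtain ⟨k, hk⟩ := IsPGroup.iff_orderOf.1 S.isPGroup' ⟨x, hx⟩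
      rw [← orderOf_coe] at hk
      have h4 : 4 ≤ Fintype.card F := by
        rw [hF]
        calc 4 ≤ 2 ^ 3 := by norm_num
          _ ≤ p ^ 3 := Nat.pow_le_pow_left hp.two_le 3
          _ ≤ p ^ f := Nat.pow_le_pow_right hp.pos hf
      have hm : orderOf x ∈ Set.range (orderOf : ProjectiveSpecialLinearGroup (Fin 2) F → ℕ) := ⟨x, rfl⟩
      rw [Cfsg.Lib.Spec.psl_two_spectrum p h4] at hm
      rcases Nat.eq_zero_or_pos k with rfl | hk0
      · rw [show orderOf x = 1 from hk]; exact one_dvd _
      have hpx : p ∣ orderOf x := hk ▸ dvd_pow_self p hk0.ne'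
      have hpq : p ∣ Fintype.card F := hF ▸ dvd_pow_self p (by omega)
      rcases hm with h | h | h
      · exact h
      · exfalso
        have h1 := hpx.trans (h.trans (Nat.div_dvd_of_dvd (Nat.gcd_dvd_right _ _)))
        have h2 := Nat.dvd_sub hpq h1
        rw [show Fintype.card F - (Fintype.card F - 1) = 1 by omega] at h2
        exact hp.not_dvd_one h2
      · exfalso
        have hgd : Nat.gcd 2 (Fintype.card F - 1) ∣ Fintype.card F + 1 := by
          rcases (Nat.dvd_prime Nat.prime_two).1 (Nat.gcd_dvd_left 2 (Fintype.card F - 1)) with e | e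
          · rw [e]; exact one_dvd _
          · have := Nat.gcd_dvd_right 2 (Fintype.card F - 1)
            rw [e] at this ⊢; omega
        have h1 := hpx.trans (h.trans (Nat.div_dvd_of_dvd hgd))
        have h2 := Nat.dvd_sub h1 hpq
        rw [show Fintype.card F + 1 - Fintype.card F = 1 by omega] at h2
        exact hp.not_dvd_one h2
    have hncyc : ¬ IsCyclic (R : Subgroup G) := fun hc => by
      haveI : IsCyclic (S : Subgroup (ProjectiveSpecialLinearGroup (Fin 2) F)) := by
        let r : (S : Subgroup (ProjectiveSpecialLinearGroup (Fin 2) F)) →* (R : Subgroup G) :=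
          (inclusion hR).comp ((S : Subgroup (ProjectiveSpecialLinearGroup (Fin 2) F)).equivMapOfInjective j hjinj).toMonoidHom
        exact isCyclic_of_injective r ((inclusion_injective hR).comp (MulEquiv.injective _))
      obtain ⟨x, hx⟩ := IsCyclic.exists_generator (α := (S : Subgroup (ProjectiveSpecialLinearGroup (Fin 2) F)))
      have h1 : Nat.card S = orderOf x := (orderOf_eq_card_of_forall_mem_zpowers hx).symm
      have h2 : orderOf x ∣ p := orderOf_coe x ▸ hSexp x x.2
      rw [← h1, hS] at h2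
      have := Nat.le_of_dvd hp.pos h2
      have h3 : p ^ 2 ≤ p ^ f := Nat.pow_le_pow_right hp.pos (by omega)
      nlinarith [hp.two_le]
    rcases Cfsg.Agent.S4020.result hD R with h | h | hq
    · exact absurd h hncyc
    · exact h
    · exfalso
      obtain ⟨q⟩ := hq
      have hp2 : p = 2 := by
        obtain ⟨m, hm⟩ := IsPGroup.iff_card.1 R.isPGroup'
        rw [Nat.card_congr q.toEquiv, Nat.card_eq_fintype_card, QuaternionGroup.card] at hm
        exact ((Nat.prime_dvd_prime_iff_eq Nat.prime_two hp).1 (Nat.prime_two.dvd_of_dvd_pow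
          (hm ▸ (by norm_num : 2 ∣ 4 * 2) : 2 ∣ p ^ m))).symm
      subst hp2
      -- three involutions in a quaternion group
      have hS8 : 8 ≤ Nat.card S := by
        rw [hS]; exact le_trans (by norm_num) (Nat.pow_le_pow_right two_pos hf)
      have hR8 : Nat.card (R : Subgroup G) = 8 := by
        rw [Nat.card_congr q.toEquiv, Nat.card_eq_fintype_card, QuaternionGroup.card]
      have hSR : (S : Subgroup (ProjectiveSpecialLinearGroup (Fin 2) F)).map j = R := eq_of_le_of_card_ge hR (by
        rw [hR8, card_map_of_injective hjinj]; exact hS8)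
      obtain ⟨y, hy⟩ := q.symm.surjective (q.symm (QuaternionGroup.a 1))
      have hy4 : orderOf (q.symm (QuaternionGroup.a 1)) = 4 := by
        rw [MulEquiv.orderOf_eq, QuaternionGroup.orderOf_a_one]
      have hm := (q.symm (QuaternionGroup.a 1)).2
      obtain ⟨x, hx, hxe⟩ := (hSR.ge hm : ((q.symm (QuaternionGroup.a 1) : (R : Subgroup G)) : G) ∈ _)
      have h5 : orderOf x ∣ 2 := hSexp x hx
      rw [← orderOf_injective j hjinj, hxe, orderOf_coe, hy4] at h5
      norm_num at h5
  have hdN : p ∣ Nat.card N := by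
    rw [Nat.card_congr e.toEquiv]
    exact ((dvd_pow_self p (by omega)).trans (dvd_of_eq hS.symm)).trans (Subgroup.card_subgroup_dvd_card _)
  have hRN := sylow_le_of_dvd hD N hdN R hel
  have hSR : (S : Subgroup (ProjectiveSpecialLinearGroup (Fin 2) F)).map j = R := by
    refine le_antisymm hR fun x hx => ?_
    have hle : (S : Subgroup (ProjectiveSpecialLinearGroup (Fin 2) F)) ≤ (R : Subgroup G).comap j := map_le_iff_le_comap.1 hR
    have h := S.is_maximal' (R.isPGroup'.comap_of_injective j hjinj) hle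
    refine ⟨e ⟨x, hRN hx⟩, h ▸ ?_, ?_⟩
    · show j (e ⟨x, hRN hx⟩) ∈ (R : Subgroup G)
      rwa [hj, MonoidHom.comp_apply, MulEquiv.coe_toMonoidHom, e.symm_apply_apply]
    · show ((e.symm (e ⟨x, hRN hx⟩) : N) : G) = x
      rw [e.symm_apply_apply]
  set M := normalizer ((R : Subgroup G) : Set G) with hM
  -- the normalizer inside `N`
  have hMN : (normalizer ((S : Subgroup (ProjectiveSpecialLinearGroup (Fin 2) F)) : Set _)).map j = M ⊓ N := by
    ext x
    constructor
    · rintro ⟨y, hy, rfl⟩
      rw [hM, ← hSR]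
      refine ⟨mem_normalizer_iff.2 fun z => ?_, hjN y⟩
      constructor
      · rintro ⟨w, hw, rfl⟩
        exact ⟨y * w * y⁻¹, (mem_normalizer_iff.1 hy w).1 hw, by rw [map_mul, map_mul, map_inv]⟩
      · rintro ⟨w, hw, hwe⟩
        refine ⟨y⁻¹ * w * y, ?_, ?_⟩
        · have := (mem_normalizer_iff.1 (inv_mem hy) w).1 hw
          rwa [inv_inv] at this
        · rw [map_mul, map_mul, map_inv, hwe]; group
    · rintro ⟨hxM, hxN⟩
      refine ⟨e ⟨x, hxN⟩, ?_, by show ((e.symm (e ⟨x, hxN⟩) : N) : G) = x; rw [e.symm_apply_apply]⟩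
      have hjx : j (e ⟨x, hxN⟩) = x := by
        show ((e.symm (e ⟨x, hxN⟩) : N) : G) = x
        rw [e.symm_apply_apply]
      refine mem_normalizer_iff.2 fun z => ?_
      rw [← mem_map_iff_mem hjinj (x := z), ← mem_map_iff_mem hjinj (x := e ⟨x, hxN⟩ * z * (e ⟨x, hxN⟩)⁻¹),
        hSR, map_mul, map_mul, map_inv, hjx]
      exact mem_normalizer_iff.1 hxM _
  let eM : ↥(N.subgroupOf M) ≃* ↥(normalizer ((S : Subgroup (ProjectiveSpecialLinearGroup (Fin 2) F)) : Set _)) :=
    ((Subgroup.equivMapOfInjective _ M.subtype M.subtype_injective).trans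
      (MulEquiv.subgroupCongr (by rw [Subgroup.subgroupOf_map_subtype, inf_comm, ← hMN]))).trans
      (Subgroup.equivMapOfInjective _ j hjinj).symm
  refine ⟨R, hRN, hel, ?_, ?_, ?_⟩
  · rw [← hSR, card_map_of_injective hjinj, hS]
  · haveI := Cfsg.Lib.Dickson.isSolvable_normalizer_sylow_psl p S
    haveI : Group.IsSolvable ↥(N.subgroupOf M) :=
      Group.isSolvable_of_isSolvable_injective (f := eM.toMonoidHom) eM.injective
    haveI : Group.IsSolvable (M ⧸ N.subgroupOf M) := by
      refine Cfsg.Agent.S0205.result ?_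
      rw [← Subgroup.index_eq_card]
      exact Odd.of_dvd_nat hodd (Subgroup.relIndex_dvd_index_of_normal N M)
    haveI : Group.IsSolvable M := Group.isSolvable_of_ker_le_range (N.subgroupOf M).subtype
      (QuotientGroup.mk' (N.subgroupOf M)) (by simp)
    exact Group.isSolvable_of_surjective (f := QuotientGroup.mk' (Cfsg.pPrimeCore p ↥M))
      (QuotientGroup.mk'_surjective _)
  · rw [Nat.card_congr eM.toEquiv]
    exact Cfsg.Lib.Dickson.card_normalizer_sylow_psl p S

include e in
/-- Odd `q ≡ 3, 5 mod 8`. -/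
theorem odd_psl (hD : HD G) (hC : centralizer (N : Set G) = ⊥) (hodd : Odd N.index)
    (h8 : Fintype.card F % 8 = 3 ∨ Fintype.card F % 8 = 5) (h5 : 5 ≤ Fintype.card F) :
    N = ⊤ ∧ ∃ (r : ℕ) (_ : Fact r.Prime), (r % 8 = 3 ∨ r % 8 = 5) ∧
      (Nonempty (F ≃+* ZMod r) ∨ Nonempty (F ≃+* GaloisField r 3)) := by
  obtain ⟨r, hrp, hr, f, hf, hF⟩ := Cfsg.Lib.Dickson.exists_char (F := F)
  haveI := Fact.mk hrp
  haveI := hr
  have hro : r % 2 = 1 := by
    rcases hrp.eq_two_or_odd with rfl | h
    · exfalso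
      have : 2 ∣ Fintype.card F := hF ▸ dvd_pow_self 2 hf.ne'
      omega
    · exact h
  have hsq : r ^ 2 % 8 = 1 := by
    have hlt := Nat.mod_lt r (show 8 > 0 by norm_num)
    rw [Nat.pow_mod]
    obtain h | h | h | h : r % 8 = 1 ∨ r % 8 = 3 ∨ r % 8 = 5 ∨ r % 8 = 7 := by omega
    all_goals rw [h]
  have hfodd : f % 2 = 1 := by
    by_contra h
    obtain ⟨k, rfl⟩ : ∃ k, f = 2 * k := ⟨f / 2, by omega⟩
    have : r ^ (2 * k) % 8 = 1 := by simp [pow_mul, Nat.pow_mod, hsq]
    omega
  have hr8 : r % 8 = 3 ∨ r % 8 = 5 := by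
    obtain ⟨k, rfl⟩ : ∃ k, f = 2 * k + 1 := ⟨f / 2, by omega⟩
    have : r ^ (2 * k + 1) % 8 = r % 8 := by
      rw [pow_succ, Nat.mul_mod, pow_mul, Nat.pow_mod, hsq, one_pow]
      simp [Nat.mod_mod]
    omega
  have hidx := index_dvd N e hC hodd hf hF (by omega)
  rcases eq_or_ne f 1 with rfl | hf1
  · refine ⟨index_eq_one.1 (Nat.dvd_one.1 hidx), r, inferInstance, hr8, Or.inl ⟨?_⟩⟩
    exact (ZMod.ringEquiv F (by rw [hF, pow_one])).symm
  obtain ⟨P, -, hel, hPc, hsolv, -⟩ := sylow_normalizer_data N e hD hodd (p := r) hF (by omega)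
  rcases Cfsg.Agent.S4025.result (hD r hrp) P f (by omega) hel hPc _ rfl hsolv with ⟨h3, -⟩ | ⟨-, h2, -⟩
  swap
  · omega
  subst h3
  refine ⟨?_, r, inferInstance, hr8, Or.inr ?_⟩
  · rcases (Nat.dvd_prime Nat.prime_three).1 hidx with h | h
    · exact index_eq_one.1 h
    exfalso
    -- the range has index two
    haveI : Fact (Nat.Prime 3) := ⟨Nat.prime_three⟩
    have hR2 : (toAut N e).range.index = 2 := by
      have h' := card_mul N e hC
      rw [h, Cfsg.Agent.S0813.result r 3 (by norm_num) hF 2 le_rfl (fun _ => by omega), if_pos rfl, one_mul,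
        Cfsg.Lib.Dickson.card_PGL_two_eq, ← Cfsg.Lib.Linear.Two.card_PSL_two,
        Nat.gcd_eq_left (show 2 ∣ Fintype.card F - 1 by omega)] at h'
      exact Nat.eq_of_mul_eq_mul_left (show 0 < 3 * Nat.card (ProjectiveSpecialLinearGroup (Fin 2) F) from
        Nat.mul_pos three_pos Nat.card_pos) (h'.trans (by ring))
    refine index_ne_three N e hD hC hF (by omega) ?_ fun β hβ => ?_
    · rw [Nat.card_congr e.toEquiv]
      have hc := Cfsg.Lib.Linear.Two.card_PSL_two (F := F)
      rw [Nat.gcd_eq_left (show 2 ∣ Fintype.card F - 1 by omega)] at hc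
      have h3 : 3 ∣ Fintype.card F * (Fintype.card F ^ 2 - 1) := by
        rcases Nat.lt_or_ge 0 (Fintype.card F % 3) with h0 | h0
        · refine dvd_mul_of_dvd_right ?_ _
          have h1 : Fintype.card F ^ 2 % 3 = 1 := by
            rw [Nat.pow_mod]
            obtain h | h : Fintype.card F % 3 = 1 ∨ Fintype.card F % 3 = 2 := by omega
            all_goals rw [h]
          omega
        · exact dvd_mul_of_dvd_left (Nat.dvd_of_mod_eq_zero (by omega)) _
      rw [← hc] at h3
      exact (Nat.Coprime.dvd_of_dvd_mul_left (by norm_num) h3)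
    · -- elements of odd order lie in a subgroup of index two
      haveI : (toAut N e).range.Normal := Subgroup.normal_of_index_eq_two hR2
      have hq : (QuotientGroup.mk β : _ ⧸ (toAut N e).range) = 1 := by
        rw [← orderOf_eq_one_iff]
        have h1 : orderOf (QuotientGroup.mk β : _ ⧸ (toAut N e).range) ∣ 3 :=
          hβ ▸ orderOf_map_dvd (QuotientGroup.mk' (toAut N e).range) β
        have h2 : orderOf (QuotientGroup.mk β : _ ⧸ (toAut N e).range) ∣ 2 := by
          have := orderOf_dvd_natCard (QuotientGroup.mk β : _ ⧸ (toAut N e).range)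
          rwa [← Subgroup.index_eq_card, hR2] at this
        exact Nat.eq_one_of_dvd_coprimes (by norm_num) h1 h2
      exact (QuotientGroup.eq_one_iff β).1 hq
  · haveI : Fintype (GaloisField r 3) := Fintype.ofFinite _
    exact ⟨FiniteField.ringEquivOfCardEq (by
      rw [hF, ← Nat.card_eq_fintype_card, GaloisField.card r 3 (by norm_num)])⟩

include e in
/-- Even fields. -/
theorem even_psl (hD : HD G) (hC : centralizer (N : Set G) = ⊥) (hodd : Odd N.index) {a : ℕ} (ha : 2 ≤ a)
    (hF : Fintype.card F = 2 ^ a) : Concl G := by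
  classical
  haveI : Fact (Nat.Prime 2) := ⟨Nat.prime_two⟩
  haveI : Fact (Nat.Prime 5) := ⟨Nat.prime_five⟩
  have h4 : 4 ≤ Fintype.card F := hF ▸ Nat.pow_le_pow_right two_pos ha
  have hidx := index_dvd N e hC hodd (p := 2) (f := a) (by omega) hF h4
  rcases eq_or_lt_of_le ha with rfl | ha3
  · have htop : N = ⊤ := by
      rcases (Nat.dvd_prime Nat.prime_two).1 hidx with h | h
      · exact index_eq_one.1 h
      · rw [h] at hodd; exact absurd hodd (by decide)
    obtain ⟨ψ⟩ := Cfsg.Agent.S0252.result (F := F) hF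
    obtain ⟨χ⟩ := Cfsg.Agent.S0253.result (F := ZMod 5) (ZMod.card 5)
    exact Or.inr (Or.inr (Or.inr (Or.inr (Or.inr (Or.inr (Or.inr
      ⟨5, inferInstance, Or.inr (by norm_num), Or.inl ⟨((topEquiv.symm.trans
        (MulEquiv.subgroupCongr htop.symm)).trans e).trans (ψ.trans χ.symm)⟩⟩))))))
  haveI := Cfsg.Lib.Linear.AutPSL.charP_of_card (p := 2) (f := a) (by omega) hF
  obtain ⟨P, -, hel, hPc, hsolv, hcardN⟩ := sylow_normalizer_data N e hD hodd (p := 2) hF (by omega)
  set M := normalizer ((P : Subgroup G) : Set G) with hM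
  rcases Cfsg.Agent.S4025.result (hD 2 Nat.prime_two) P a (by omega) hel hPc _ hM hsolv with
    ⟨rfl, -⟩ | ⟨rfl, -, hq⟩
  · -- `PSL₂(8)`
    rcases (Nat.dvd_prime Nat.prime_three).1 hidx with h | h
    · obtain ⟨ρ⟩ : Nonempty (F ≃+* GaloisField 2 3) := by
        haveI : Fintype (GaloisField 2 3) := Fintype.ofFinite _
        exact ⟨FiniteField.ringEquivOfCardEq (by
          rw [hF, ← Nat.card_eq_fintype_card, GaloisField.card 2 3 (by norm_num)])⟩
      exact Or.inr (Or.inr (Or.inr (Or.inr (Or.inr (Or.inl ⟨((topEquiv.symm.trans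
        (MulEquiv.subgroupCongr (index_eq_one.1 h).symm)).trans e).trans (pslTwoCongr ρ)⟩)))))
    · exfalso
      refine index_ne_three N e hD hC (p := 2) hF h4 ?_ fun β _ => ?_
      · rw [Nat.card_congr e.toEquiv]
        have hc := Cfsg.Lib.Linear.Two.card_PSL_two (F := F)
        rw [hF] at hc
        norm_num at hc
        rw [Nat.card_eq_fintype_card, hc]; norm_num
      · have h' := card_mul N e hC
        rw [h, Cfsg.Agent.S0813.result 2 3 (by norm_num) hF 2 le_rfl (fun _ => by norm_num), if_pos rfl, one_mul,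
          Cfsg.Lib.Dickson.card_PGL_two_eq, ← Cfsg.Lib.Linear.Two.card_PSL_two] at h'
        rw [show Nat.gcd 2 (Fintype.card F - 1) = 1 by rw [hF]; rfl, one_mul] at h'
        have h1 : (toAut N e).range.index = 1 := by
          refine Nat.eq_of_mul_eq_mul_left (show 0 < 3 * Nat.card (ProjectiveSpecialLinearGroup (Fin 2) F) from
            Nat.mul_pos three_pos Nat.card_pos) (h'.trans (mul_one _).symm)
        rw [index_eq_one.1 h1]; exact mem_top β
  · -- `Aut PSL₂(32)`
    obtain ⟨q⟩ := hq
    have h5 : N.index = 5 := by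
      rcases (Nat.dvd_prime Nat.prime_five).1 hidx with h | h
      · exfalso
        have hMN : N.subgroupOf M = ⊤ := by rw [index_eq_one.1 h, Subgroup.top_subgroupOf]
        rw [hMN, card_top, hF] at hcardN
        norm_num at hcardN
        have hc := Nat.card_congr q.toEquiv
        rw [Cfsg.Agent.S4025.card_semiaffine, Nat.card_units, GaloisField.card 2 5 (by norm_num),
          Cfsg.Agent.S4025.card_ringAut 2 5 (by norm_num)] at hc
        norm_num at hc
        have hd : 4960 ∣ Nat.card M := hc ▸ (Cfsg.pPrimeCore 2 ↥M).card_quotient_dvd_card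
        rw [hcardN] at hd
        norm_num at hd
      · exact h
    have hbij : Function.Bijective (toAut N e) := by
      refine ⟨toAut_injective N e hC, MonoidHom.range_eq_top.1 (index_eq_one.1 ?_)⟩
      have h' := card_mul N e hC
      rw [h5, Cfsg.Agent.S0813.result 2 5 (by norm_num) hF 2 le_rfl (fun _ => by norm_num), if_pos rfl, one_mul,
        Cfsg.Lib.Dickson.card_PGL_two_eq, ← Cfsg.Lib.Linear.Two.card_PSL_two] at h'
      rw [show Nat.gcd 2 (Fintype.card F - 1) = 1 by rw [hF]; rfl, one_mul] at h'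
      exact Nat.eq_of_mul_eq_mul_left (show 0 < 5 * Nat.card (ProjectiveSpecialLinearGroup (Fin 2) F) from
        Nat.mul_pos (by norm_num) Nat.card_pos) (h'.trans (mul_one _).symm)
    obtain ⟨ρ⟩ : Nonempty (F ≃+* GaloisField 2 5) := by
      haveI : Fintype (GaloisField 2 5) := Fintype.ofFinite _
      exact ⟨FiniteField.ringEquivOfCardEq (by
        rw [hF, ← Nat.card_eq_fintype_card, GaloisField.card 2 5 (by norm_num)])⟩
    exact Or.inr (Or.inr (Or.inr (Or.inr (Or.inr (Or.inr (Or.inl
      ⟨(MulEquiv.ofBijective (toAut N e) hbij).trans (MulAut.congr (pslTwoCongr ρ))⟩))))))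

end Socle

end Cfsg.Lib.ConjEqual
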