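import Cfsg.Agent.Lib.ConjEqual.Socle
import Cfsg.Agent.Lib.ConjEqual.Affine
import Cfsg.Agent.Lib.ConjEqual.PSLSocle
import Cfsg.Agent.Lib.SimpleAbTwo.Cases
import Cfsg.Agent.Lib.AllAb.False3
import Cfsg.Agent.Lib.J1.Outer
import Cfsg.Agent.Lib.GW.Main
import Cfsg.Agent.Lib.GW.QGroupKernel
import Cfsg.Agent.Lib.ReeType.Three
import Cfsg.Agent.S1644

/-!
# The list for the quotient by the odd core
-/

set_option autoImplicit false
set_option linter.unusedSectionVars false
set_option linter.style.haveILetI false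

namespace Cfsg.Lib.ConjEqual

open Subgroup Cfsg Matrix
open Cfsg.Lib
open scoped commutatorElement

universe u

variable {G : Type u} [Group G] [Finite G]

/-- The structure of the nonsolvable involution centralizers in all simple groups of the universe. -/
def CentHyp : Prop :=
  ∀ (X : Type u) [Group X] [Finite X] [IsSimpleGroup X], ¬ IsMulCommutative X → Walter3.CentClause X

theorem comm_of_el {p : ℕ} [Fact p.Prime] (hD : HD G) (hp : p ≠ 2) (P : Sylow p G) :
    ∀ a ∈ (P : Subgroup G), ∀ b ∈ (P : Subgroup G), a * b = b * a := by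
  intro a ha b hb
  rcases Cfsg.Agent.S4020.result hD P with h | h | hq
  · haveI := h
    exact congrArg Subtype.val ((IsCyclic.commutative).is_comm.comm (⟨a, ha⟩ : (P : Subgroup G)) ⟨b, hb⟩)
  · exact congrArg Subtype.val (h.1.is_comm.comm (⟨a, ha⟩ : (P : Subgroup G)) ⟨b, hb⟩)
  · exfalso
    obtain ⟨q⟩ := hq
    obtain ⟨m, hm⟩ := IsPGroup.iff_card.1 P.isPGroup'
    rw [Nat.card_congr q.toEquiv, Nat.card_eq_fintype_card, QuaternionGroup.card] at hm
    exact hp ((Nat.prime_dvd_prime_iff_eq Nat.prime_two Fact.out).1 (Nat.prime_two.dvd_of_dvd_pow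
      (hm ▸ (by norm_num : 2 ∣ 4 * 2) : 2 ∣ p ^ m))).symm

/-- A simple socle. -/
theorem almostSimple (hW : CentHyp.{u}) (hD : HD G) (N : Subgroup G) [N.Normal] [IsSimpleGroup ↥N]
    (hna : ¬ IsMulCommutative ↥N) (hC : centralizer (N : Set G) = ⊥) (hodd : Odd N.index)
    (T : Sylow 2 G) (hel : Cfsg.IsElementaryAbelian 2 (T : Subgroup G))
    (hTN : (T : Subgroup G) ≤ N) : Concl G := by
  classical
  haveI : Fact (Nat.Prime 2) := ⟨Nat.prime_two⟩
  haveI : Fact (Nat.Prime 3) := ⟨Nat.prime_three⟩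
  let T' : Sylow 2 N := T.subtype hTN
  have hT' : IsMulCommutative (T' : Subgroup N) := by
    refine ⟨⟨fun a b => Subtype.ext (Subtype.ext ?_)⟩⟩
    have h := congrArg Subtype.val (hel.1.is_comm.comm (⟨_, a.2⟩ : (T : Subgroup G)) ⟨_, b.2⟩)
    exact h
  rcases SimpleAbTwo.cases hna T' hT' (hW ↥N hna) with ⟨F, i, j, hq, he⟩ | ⟨t, F, i, j, ht, h3, -, he, -⟩
  · obtain ⟨e⟩ := he
    rcases hq with ⟨a, ha, hF⟩ | ⟨h8, h5⟩
    · exact even_psl N e hD hC hodd ha hF
    · obtain ⟨htop, r, hr, hr8, hρ⟩ := odd_psl N e hD hC hodd h8 h5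
      let ε := (topEquiv.symm.trans (MulEquiv.subgroupCongr htop.symm)).trans e
      refine Or.inr (Or.inr (Or.inr (Or.inr (Or.inr (Or.inr (Or.inr ⟨r, hr, hr8, ?_⟩))))))
      rcases hρ with hρ | hρ
      · exact Or.inl (hρ.elim fun ρ => ⟨ε.trans (pslTwoCongr ρ)⟩)
      · exact Or.inr (Or.inl (hρ.elim fun ρ => ⟨ε.trans (pslTwoCongr ρ)⟩))
  obtain ⟨e⟩ := he
  obtain ⟨P, hP⟩ := (IsPGroup.of_card (n := 1) (by rw [Nat.card_zpowers, ht, pow_one]) :
    IsPGroup 2 (zpowers t)).exists_le_sylow
  haveI hPc := CentMax.sylow_comm T' hT' P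
  have hab : ∀ Q : Sylow 2 N, ∀ a b : Q, a * b = b * a := fun Q a b =>
    (CentMax.sylow_comm T' hT' Q).is_comm.comm a b
  rcases Walter8.main_data hab h3 t ht e with ⟨m, hm, hF, hord, χ, hχ⟩ | ⟨h45, hJ⟩
  · -- the Ree orders are excluded
    refine (AllAb.false_of_ree hna hm hF ht ?_ e hord χ hχ fun Q a ha b hb => ?_).elim
    · have hle : (P : Subgroup N) ≤ centralizer ({t} : Set ↥N) := fun x hx =>
        mem_centralizer_singleton_iff.2 (congrArg Subtype.val
          (hPc.is_comm.comm (⟨x, hx⟩ : (P : Subgroup N)) ⟨t, hP (mem_zpowers t)⟩))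
      rw [Nat.odd_iff]
      by_contra h
      exact P.not_dvd_index ((Nat.dvd_of_mod_eq_zero (by omega)).trans (index_dvd_of_le hle))
    · obtain ⟨R, hR⟩ := (Q.isPGroup'.map N.subtype).exists_le_sylow
      exact Subtype.ext (comm_of_el hD (by norm_num) R _ (hR ⟨a, ha, rfl⟩) _ (hR ⟨b, hb, rfl⟩))
  · -- the first Janko group has no outer automorphisms
    obtain ⟨ψ⟩ : Nonempty (ProjectiveSpecialLinearGroup (Fin 2) F ≃* alternatingGroup (Fin 5)) :=
      h45.elim Cfsg.Agent.S0252.result Cfsg.Agent.S0253.result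
    have h8 : Nat.card P = 8 := by
      rw [P.card_eq_multiplicity, hJ.2]
      rw [show (175560 : ℕ) = 2 ^ 3 * 21945 by norm_num, Nat.factorization_mul (by norm_num) (by norm_num),
        Finsupp.add_apply, Nat.prime_two.factorization_pow, Finsupp.single_eq_same,
        Nat.factorization_eq_zero_of_not_dvd (by norm_num : ¬ 2 ∣ 21945)]
      rfl
    obtain ⟨φ⟩ := Cfsg.Agent.S1644.result P hPc h8 t ht (e.trans ((MulEquiv.refl _).prodCongr ψ))
    have htop : N = ⊤ := eq_top_iff.2 fun g _ => by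
      obtain ⟨s, hs⟩ : (MulAut.congr φ) (MulAut.conjNormal g) ∈ Cfsg.Inn ↥Spor.J1 :=
        Cfsg.Lib.J1.mem_inn _
      set n : N := φ.symm s with hn
      have heq : MulAut.conjNormal g = MulAut.conj n := by
        refine MulEquiv.ext fun x => φ.injective ?_
        have h := congrArg (fun f : MulAut ↥Spor.J1 => f (φ x)) hs
        simp only [MulAut.conj_apply] at h
        rw [MulAut.conj_apply, map_mul, map_mul, map_inv, hn, φ.apply_symm_apply, h]
        show φ ((MulAut.conjNormal g : MulAut N) x) = φ ((MulAut.conjNormal g : MulAut N) (φ.symm (φ x)))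
        rw [φ.symm_apply_apply]
      rw [← conjNormal_coe N n] at heq
      have := conjNormal_injective N hC heq
      rw [this]
      exact n.2
    let ε : G ≃* ↥N := topEquiv.symm.trans (MulEquiv.subgroupCongr htop.symm)
    refine Or.inr (Or.inr (Or.inr (Or.inr (Or.inl ⟨ε.isSimpleGroup, ?_⟩))))
    rw [Nat.card_congr ε.toEquiv]
    exact hJ.2

/-- Cyclic Sylow two-subgroups. -/
theorem cyclic_case (hO : Cfsg.oddCore G = ⊥) (T : Sylow 2 G) (hT : IsCyclic (T : Subgroup G)) :
    IsCyclic G ∧ IsPGroup 2 G := by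
  haveI : Fact (Nat.Prime 2) := ⟨Nat.prime_two⟩
  suffices htop : (T : Subgroup G) = ⊤ by
    refine ⟨?_, ?_⟩
    · haveI := hT
      exact (MulEquiv.subgroupCongr htop |>.trans topEquiv).isCyclic.1 hT
    · exact T.isPGroup'.of_equiv ((MulEquiv.subgroupCongr htop).trans topEquiv)
  by_cases h2 : 2 ∣ Nat.card G
  · obtain ⟨P, K, hK, hKP⟩ := Cfsg.Lib.Fusion.hasNormalPComplement_of_normalizer_le_centralizer T
      (IsCyclic.normalizer_le_centralizer ((Nat.minFac_eq_two_iff _).2 h2) hT)
    have hKb : K = ⊥ := eq_bot_of_odd hO hK (by rw [← hKP.index_eq_card]; exact P.not_dvd_index)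
    subst hKb
    have h := hKP.card_mul
    rw [Subgroup.card_bot, one_mul] at h
    refine Subgroup.eq_top_of_card_eq _ ?_
    rw [T.card_eq_multiplicity, ← P.card_eq_multiplicity, h]
  · have h1 : (⊤ : Subgroup G) = ⊥ := eq_bot_of_odd hO inferInstance (by rwa [card_top])
    exact (eq_top_iff.2 (h1.le.trans bot_le))

/-- Elementary abelian Sylow two-subgroups. -/
theorem elementary_case (hW : CentHyp.{u}) (hD : HD G) (hO : Cfsg.oddCore G = ⊥) (T : Sylow 2 G)
    (hel : Cfsg.IsElementaryAbelian 2 (T : Subgroup G)) : Concl G := by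
  haveI : Fact (Nat.Prime 2) := ⟨Nat.prime_two⟩
  by_cases h4 : 4 ≤ Nat.card T
  · haveI : Nontrivial G := by
      haveI : Nontrivial (T : Subgroup G) := Finite.one_lt_card_iff_nontrivial.1 (by omega)
      exact (T : Subgroup G).subtype_injective.nontrivial
    rcases socle_cases hD hO T hel with h | ⟨N, hNn, hs, hna, hC, hodd, hTN⟩
    · exact affine hD hO T hel h4
    · exact almostSimple hW hD N hna hC hodd T hel hTN
  · refine Or.inl (cyclic_case hO T ?_)
    obtain ⟨k, hk⟩ := IsPGroup.iff_card.1 T.isPGroup'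
    have hk1 : k ≤ 1 := by
      by_contra h
      exact h4 (hk ▸ (le_trans (by norm_num) (Nat.pow_le_pow_right two_pos (show 2 ≤ k by omega))))
    interval_cases k
    · haveI := (Nat.card_eq_one_iff_unique.1 (hk.trans (pow_zero 2))).1
      exact isCyclic_of_subsingleton
    · exact isCyclic_of_prime_card (hk.trans (pow_one 2))

theorem quaternion_facts :
    (∀ g : QuaternionGroup 2, g * g = 1 ∨ g * g = QuaternionGroup.a 2) ∧
      (∀ g : QuaternionGroup 2, g * g = 1 → g = 1 ∨ g = QuaternionGroup.a 2) ∧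
      (∀ g : QuaternionGroup 2, g * g ≠ 1 → g ^ 4 = 1) ∧
      (∀ g h : QuaternionGroup 2, g = 1 ∨ g * g ≠ 1 ∨ g = h * h ∨ h * h = 1) ∧
      (QuaternionGroup.xa 0 : QuaternionGroup 2) * QuaternionGroup.xa 0 ≠ 1 ∧
      (QuaternionGroup.a 1 * QuaternionGroup.xa 0 : QuaternionGroup 2) *
        (QuaternionGroup.a 1 * QuaternionGroup.xa 0) ≠ 1 := by
  decide

/-- Quaternion Sylow two-subgroups. -/
theorem quaternion_case (hD : HD G) (hO : Cfsg.oddCore G = ⊥) (T : Sylow 2 G)
    (q : (T : Subgroup G) ≃* QuaternionGroup 2) : Concl G := by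
  classical
  haveI : Fact (Nat.Prime 2) := ⟨Nat.prime_two⟩
  obtain ⟨q1, q2, q4, q5, qx, qax⟩ := quaternion_facts
  have hT8 : Nat.card (T : Subgroup G) = 8 := by
    rw [Nat.card_congr q.toEquiv, Nat.card_eq_fintype_card, QuaternionGroup.card]
  -- no subgroup of index two
  have hX : ∀ M : Subgroup G, M.index ≠ 2 := by
    intro M hM
    haveI := Subgroup.normal_of_index_eq_two hM
    have ho4 : ∀ g : QuaternionGroup 2, g * g ≠ 1 → orderOf ((q.symm g : (T : Subgroup G)) : G) = 4 := fun g hg => by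
      rw [orderOf_coe, MulEquiv.orderOf_eq]
      exact orderOf_eq_prime_pow (p := 2) (n := 1) (by rw [pow_one, pow_two]; exact hg)
        (by norm_num; exact q4 g hg)
    set a : G := ((q.symm (QuaternionGroup.a 1) : (T : Subgroup G)) : G)
    set x : G := ((q.symm (QuaternionGroup.xa 0) : (T : Subgroup G)) : G)
    have ha1 : (QuaternionGroup.a 1 : QuaternionGroup 2) * QuaternionGroup.a 1 ≠ 1 := by decide
    have hmove : ∀ u v : G, orderOf u = 4 → orderOf v = 4 → u ∈ M → v ∈ M := by
      intro u v hu hv hum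
      obtain ⟨g, hg⟩ := hD 2 Nat.prime_two (zpowers u) (zpowers v)
        (IsPGroup.of_card (n := 2) (by rw [Nat.card_zpowers, hu]; norm_num))
        (IsPGroup.of_card (n := 2) (by rw [Nat.card_zpowers, hv]; norm_num))
        (by rw [Nat.card_zpowers, Nat.card_zpowers, hu, hv])
      obtain ⟨w, hw, rfl⟩ : v ∈ (zpowers u).map (MulAut.conj g).toMonoidHom := hg ▸ mem_zpowers v
      exact (inferInstance : M.Normal).conj_mem w (zpowers_le.2 hum hw) g
    have hax : orderOf (a * x) = 4 := by
      have : a * x = ((q.symm (QuaternionGroup.a 1 * QuaternionGroup.xa 0) : (T : Subgroup G)) : G) := by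
        rw [map_mul, Subgroup.coe_mul]
      rw [this]; exact ho4 _ qax
    obtain ⟨ha, hx⟩ : a ∈ M ∧ x ∈ M := by
      have oa := ho4 _ ha1
      have ox := ho4 _ qx
      by_cases ha : a ∈ M
      · exact ⟨ha, hmove a x oa ox ha⟩
      by_cases hx : x ∈ M
      · exact ⟨hmove x a ox oa hx, hx⟩
      · have haxM : a * x ∈ M := (Subgroup.mul_mem_iff_of_index_two hM).2 (iff_of_false ha hx)
        exact absurd (hmove _ a hax oa haxM) ha
    have hTM : (T : Subgroup G) ≤ M := by
      intro y hy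
      have hgen : ∀ g : QuaternionGroup 2, ((q.symm g : (T : Subgroup G)) : G) ∈ M := by
        intro g
        rcases g with i | i
        · rw [show (QuaternionGroup.a i : QuaternionGroup 2) = QuaternionGroup.a 1 ^ i.val by
            rw [QuaternionGroup.a_one_pow, ZMod.natCast_zmod_val], map_pow, Subgroup.coe_pow]
          exact pow_mem ha _
        · rw [show (QuaternionGroup.xa i : QuaternionGroup 2) = QuaternionGroup.xa 0 * QuaternionGroup.a 1 ^ i.val by
            rw [QuaternionGroup.a_one_pow, ZMod.natCast_zmod_val, QuaternionGroup.xa_mul_a, zero_add],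
            map_mul, map_pow, Subgroup.coe_mul, Subgroup.coe_pow]
          exact mul_mem hx (pow_mem ha _)
      have := hgen (q ⟨y, hy⟩)
      rwa [q.symm_apply_apply] at this
    exact T.not_dvd_index ((dvd_of_eq hM.symm).trans (index_dvd_of_le hTM))
  rcases GW.quaternion_kernel GW.simpleGW hO hX T (n := 1) le_rfl q with
    ⟨-, h24⟩ | ⟨L, hLn, hperf, hZL, hTL, -, -, -, hL⟩
  · haveI : Fact (Nat.Prime 3) := ⟨Nat.prime_three⟩
    exact Or.inr (Or.inr (Or.inr (Or.inr (Or.inr (Or.inr (Or.inr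
      ⟨3, inferInstance, Or.inl (by norm_num), Or.inr (Or.inr (Or.inl h24))⟩))))))
  haveI := hLn
  have h16 : ∀ n : ℕ, n ∣ Nat.card G → ¬ 16 ∣ n := fun n hn h => by
    have h1 := (T : Subgroup G).card_mul_index
    rw [hT8] at h1
    have h2 : 8 * 2 ∣ 8 * (T : Subgroup G).index := by rw [h1]; exact h.trans hn
    exact T.not_dvd_index (Nat.dvd_of_mul_dvd_mul_left (by norm_num) h2)
  rcases hL with ⟨F, i, j, hFodd, hF3, he⟩ | ⟨hLc, hLq, -⟩
  swap
  · exfalso
    obtain ⟨ψ⟩ := hLq
    refine h16 (Nat.card L) L.card_subgroup_dvd_card ?_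
    rw [(center L).card_eq_card_quotient_mul_card_subgroup, hLc, Nat.card_congr ψ.toEquiv,
      nat_card_alternatingGroup, Nat.card_eq_fintype_card, Fintype.card_fin]
    decide
  obtain ⟨e⟩ := he
  have hF8 : Fintype.card F % 8 = 3 ∨ Fintype.card F % 8 = 5 := by
    have h1 := h16 (Nat.card L) L.card_subgroup_dvd_card
    rw [Nat.card_congr e.toEquiv, Cfsg.Lib.Linear.Two.card_SL_two] at h1
    rw [Nat.odd_iff] at hFodd
    by_contra h
    refine h1 (dvd_mul_of_dvd_right ?_ _)
    obtain ⟨k, hk⟩ : ∃ k, Fintype.card F = 8 * k + Fintype.card F % 8 := ⟨Fintype.card F / 8, by omega⟩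
    obtain hr | hr : Fintype.card F % 8 = 1 ∨ Fintype.card F % 8 = 7 := by omega
    all_goals rw [hr] at hk
    · rw [hk, show (8 * k + 1) ^ 2 = 16 * (4 * k * k + k) + 1 by ring, Nat.add_sub_cancel]
      exact dvd_mul_right _ _
    · rw [hk, show (8 * k + 7) ^ 2 = 16 * (4 * k * k + 7 * k + 3) + 1 by ring, Nat.add_sub_cancel]
      exact dvd_mul_right _ _
  -- the quotient by the centre
  have hZ2 : Nat.card (center G) = 2 := Cfsg.Lib.ZStar.card_center_of_quaternion (n := 0) hO T q
  set π := QuotientGroup.mk' (center G) with hπ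
  have hπs : Function.Surjective π := QuotientGroup.mk'_surjective _
  have hO' : Cfsg.oddCore (G ⧸ center G) = ⊥ := by
    set M := (Cfsg.oddCore (G ⧸ center G)).comap π with hM
    haveI : M.Normal := Subgroup.Normal.comap inferInstance _
    have hMc : Nat.card M = 2 * Nat.card (Cfsg.oddCore (G ⧸ center G)) := by
      rw [hM, Cfsg.Lib.Core.card_comap_eq π hπs, hπ, QuotientGroup.ker_mk', hZ2]
    obtain ⟨P⟩ : Nonempty (Sylow 2 M) := inferInstance
    have hP2 : Nat.card (P : Subgroup M) = 2 := by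
      rw [P.card_eq_multiplicity, hMc, Nat.factorization_mul two_ne_zero Nat.card_pos.ne',
        Finsupp.add_apply, Nat.prime_two.factorization_self,
        Nat.factorization_eq_zero_of_not_dvd (Cfsg.Lib.Core.pPrimeCore_not_dvd 2 (G ⧸ center G))]
      rfl
    obtain ⟨z, hz⟩ := exists_prime_orderOf_dvd_card' (G := (P : Subgroup M)) 2 (by rw [hP2])
    have hzp : (P : Subgroup M) = zpowers (z : M) := (eq_of_le_of_card_ge (zpowers_le.2 z.2) (by
      rw [Nat.card_zpowers, orderOf_coe, hz, hP2])).symm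
    obtain ⟨K, hK, hKi, hKo, hKall⟩ := ReeType.exists_odd_complement P hzp (by rw [orderOf_coe, hz])
    have hKn : (K.map M.subtype).Normal := ⟨fun x hx g => by
      obtain ⟨k, hk, rfl⟩ := hx
      refine ⟨⟨g * (k : G) * g⁻¹, (inferInstance : M.Normal).conj_mem _ k.2 g⟩, hKall _ ?_, rfl⟩
      rw [← Subgroup.orderOf_coe]
      show Odd (orderOf (g * (k : G) * g⁻¹))
      rw [show g * (k : G) * g⁻¹ = MulAut.conj g (k : G) from rfl, MulEquiv.orderOf_eq, Subgroup.orderOf_coe]
      exact Odd.of_dvd_nat hKo (Subgroup.orderOf_dvd_natCard _ hk)⟩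
    have hKb := eq_bot_of_odd hO hKn (by
      rw [card_map_of_injective M.subtype_injective]
      rw [Nat.odd_iff] at hKo
      omega)
    rw [map_eq_bot_iff_of_injective _ M.subtype_injective] at hKb
    rw [hKb, index_bot, hMc] at hKi
    exact Subgroup.card_eq_one.1 (by omega)
  have hD' : HD (G ⧸ center G) := hD.quotient (center G)
  obtain ⟨T₁⟩ : Nonempty (Sylow 2 (G ⧸ center G)) := inferInstance
  -- squares in a Sylow subgroup are central
  have hsqT : ∀ y ∈ (T : Subgroup G), y * y ∈ center G := by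
    have hZT : center G ≤ (T : Subgroup G) :=
      (Cfsg.Lib.Core.le_pCore (p := 2) (IsPGroup.of_card (n := 1) (by rw [hZ2, pow_one]))).trans
        (Cfsg.Lib.Core.pCore_le_sylow T)
    obtain ⟨z, hz⟩ := exists_prime_orderOf_dvd_card' (G := center G) 2 (by rw [hZ2])
    have hzT : (z : G) ∈ (T : Subgroup G) := hZT z.2
    have hqz : q ⟨z, hzT⟩ = QuaternionGroup.a 2 := by
      have h2 : (z : G) * z = 1 := by
        rw [← pow_two, ← hz, ← orderOf_coe]; exact pow_orderOf_eq_one _
      refine (q2 _ (by rw [← map_mul]; exact (congrArg q (Subtype.ext h2)).trans (map_one q))).resolve_left fun h => ?_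
      rw [MulEquiv.map_eq_one_iff] at h
      rw [← orderOf_coe, show (z : G) = 1 from congrArg Subtype.val h, orderOf_one] at hz
      omega
    intro y hy
    rcases q1 (q ⟨y, hy⟩) with h | h
    · rw [← map_mul, MulEquiv.map_eq_one_iff] at h
      rw [show y * y = 1 from congrArg Subtype.val h]
      exact one_mem _
    · rw [← map_mul, ← hqz] at h
      rw [show y * y = (z : G) from congrArg Subtype.val (q.injective h)]
      exact z.2
  have hsq1 : ∀ x ∈ (T₁ : Subgroup (G ⧸ center G)), x * x = 1 := by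
    intro x hx
    obtain ⟨Q, hQ, hQT, -⟩ := exists_lift (center G) T₁.isPGroup'
    obtain ⟨R, hR⟩ := hQ.exists_le_sylow
    obtain ⟨g, hg⟩ := MulAction.exists_smul_eq G T R
    rw [← hQT] at hx
    obtain ⟨y, hy, rfl⟩ := hx
    have hyR := hR hy
    rw [← hg, Sylow.coe_subgroup_smul] at hyR
    obtain ⟨w, hw, rfl⟩ := hyR
    show π (g * w * g⁻¹) * π (g * w * g⁻¹) = 1
    rw [← map_mul, ← MonoidHom.mem_ker, hπ, QuotientGroup.ker_mk']
    show g * w * g⁻¹ * (g * w * g⁻¹) ∈ center G
    rw [show g * w * g⁻¹ * (g * w * g⁻¹) = g * (w * w) * g⁻¹ by group,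
      mem_center_iff.1 (hsqT w hw) g, mul_inv_cancel_right]
    exact hsqT w hw
  have hel₁ : Cfsg.IsElementaryAbelian 2 (T₁ : Subgroup (G ⧸ center G)) := by
    refine ⟨⟨⟨fun a b => Subtype.ext ?_⟩⟩, fun x hx => by rw [pow_two]; exact hsq1 x hx⟩
    show (a : G ⧸ center G) * b = b * a
    calc (a : G ⧸ center G) * b = (a : G ⧸ center G) * (b : G ⧸ center G) *
          ((a : G ⧸ center G) * (b : G ⧸ center G) * ((a : G ⧸ center G) * (b : G ⧸ center G)))⁻¹ := by
          rw [hsq1 _ (mul_mem a.2 b.2), inv_one, mul_one]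
      _ = (b : G ⧸ center G)⁻¹ * (a : G ⧸ center G)⁻¹ := by group
      _ = b * a := by
          rw [inv_eq_of_mul_eq_one_right (hsq1 _ a.2), inv_eq_of_mul_eq_one_right (hsq1 _ b.2)]
  -- the image of `L`
  set L' := L.map π with hL'
  haveI : L'.Normal := Subgroup.Normal.map inferInstance π hπs
  obtain ⟨eL⟩ : Nonempty (L' ≃* ProjectiveSpecialLinearGroup (Fin 2) F) := by
    have hker : (π.subgroupMap L).ker = center L := by
      have h1 : (π.subgroupMap L).ker = (center G).subgroupOf L := by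
        ext x
        rw [MonoidHom.mem_ker, Subgroup.mem_subgroupOf, ← QuotientGroup.eq_one_iff (N := center G) (x : G)]
        exact ⟨fun h => congrArg Subtype.val h, fun h => Subtype.ext h⟩
      rw [h1]
      refine eq_of_le_of_card_ge (fun x hx => mem_center_iff.2 fun y => Subtype.ext
        (mem_center_iff.1 (mem_subgroupOf.1 hx) y)) ?_
      rw [Nat.card_congr (subgroupOfEquivOfLe hZL).toEquiv, hZ2, Nat.card_congr
        (Subgroup.centerCongr e).toEquiv, Cfsg.Lib.Linear.card_center_SL, Fintype.card_fin]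
      exact Nat.le_of_dvd two_pos (Nat.gcd_dvd_left _ _)
    exact ⟨((QuotientGroup.quotientKerEquivOfSurjective _ (π.subgroupMap_surjective L)).symm.trans
      (QuotientGroup.quotientMulEquivOfEq hker)).trans (QuotientGroup.congr (center L)
        (center (SpecialLinearGroup (Fin 2) F)) e (Cfsg.Lib.Dickson.map_center_mulEquiv e))⟩
  haveI : IsSimpleGroup (ProjectiveSpecialLinearGroup (Fin 2) F) :=
    Cfsg.Lib.Linear.PSL_simple 2 le_rfl (fun _ => by rw [Nat.card_eq_fintype_card]; omega)
  haveI : IsSimpleGroup ↥L' := eL.isSimpleGroup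
  have hL1 : L' ≠ ⊥ := nontrivial_iff_ne_bot _ |>.1 inferInstance
  haveI : Nontrivial (G ⧸ center G) := L'.subtype_injective.nontrivial
  rcases socle_cases hD' hO' T₁ hel₁ with h | ⟨N, hNn, hNs, hNna, hC, hodd, -⟩
  · -- a solvable group has no subgroup `SL₂(q)`
    exfalso
    haveI := h
    haveI : Group.IsSolvable (T₁ : Subgroup (G ⧸ center G)) := by
      haveI := T₁.isPGroup'.isNilpotent
      infer_instance
    haveI : Group.IsSolvable ((G ⧸ center G) ⧸ (T₁ : Subgroup (G ⧸ center G))) :=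
      Cfsg.Agent.S0205.result (by
        rw [← Subgroup.index_eq_card, Nat.odd_iff]
        have := T₁.not_dvd_index
        omega)
    haveI : Group.IsSolvable (G ⧸ center G) :=
      Group.isSolvable_of_ker_le_range (T₁ : Subgroup (G ⧸ center G)).subtype
        (QuotientGroup.mk' (T₁ : Subgroup (G ⧸ center G))) (by simp)
    haveI : Group.IsSolvable ↥L' := inferInstance
    have hc := IsSimpleGroup.comm_iff_isSolvable.2 (inferInstance : Group.IsSolvable ↥L')
    have h1 : ⁅L', L'⁆ = ⊥ := le_bot_iff.1 <| commutator_le.2 fun a ha b hb => by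
      rw [mem_bot, commutatorElement_eq_one_iff_mul_comm]
      exact congrArg Subtype.val (hc ⟨a, ha⟩ ⟨b, hb⟩)
    rw [hL', ← map_commutator, hperf] at h1
    exact hL1 h1
  haveI := hNn
  haveI := hNs
  have hNL : N = L' := by
    by_cases hinf : N ⊓ L' = ⊥
    · exfalso
      refine hL1 (le_bot_iff.1 (hC ▸ fun x hx => mem_centralizer_iff.2 fun n hn => ?_))
      exact Subgroup.commute_of_normal_of_disjoint N L' inferInstance inferInstance
        (disjoint_iff.2 hinf) n x hn hx
    refine le_antisymm ?_ ?_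
    · rcases IsSimpleGroup.eq_bot_or_eq_top_of_normal (L'.subgroupOf N) inferInstance with h | h
      · exfalso
        rw [subgroupOf_eq_bot, disjoint_iff, inf_comm] at h
        exact hinf h
      · exact subgroupOf_eq_top.1 h
    · rcases IsSimpleGroup.eq_bot_or_eq_top_of_normal (N.subgroupOf L') inferInstance with h | h
      · exfalso
        rw [subgroupOf_eq_bot, disjoint_iff] at h
        exact hinf h
      · exact subgroupOf_eq_top.1 h
  subst hNL
  obtain ⟨htop, r, hr, hr8, hρ⟩ := odd_psl L' eL hD' hC hodd hF8 (by rw [Nat.odd_iff] at hFodd; omega)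
  have hLtop : L = ⊤ := by
    have h1 := congrArg (Subgroup.comap π) htop
    rwa [hL', comap_top, comap_map_eq_self (by rw [hπ, QuotientGroup.ker_mk']; exact hZL)] at h1
  let ε := (topEquiv.symm.trans (MulEquiv.subgroupCongr hLtop.symm)).trans e
  refine Or.inr (Or.inr (Or.inr (Or.inr (Or.inr (Or.inr (Or.inr ⟨r, hr, hr8, ?_⟩))))))
  rcases hρ with hρ | hρ
  · exact Or.inr (Or.inr (Or.inl (hρ.elim fun ρ => ⟨ε.trans (slTwoCongr ρ)⟩)))
  · exact Or.inr (Or.inr (Or.inr (hρ.elim fun ρ => ⟨ε.trans (slTwoCongr ρ)⟩)))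

/-- The list, given the structure of the nonsolvable involution centralizers. -/
theorem list_of_cent (hW : CentHyp.{u}) (hD : HD G) : Concl (G ⧸ Cfsg.oddCore G) := by
  haveI : Fact (Nat.Prime 2) := ⟨Nat.prime_two⟩
  have hD' := hD.quotient (Cfsg.oddCore G)
  have hO := oddCore_quotient_eq_bot (G := G)
  obtain ⟨T⟩ : Nonempty (Sylow 2 (G ⧸ Cfsg.oddCore G)) := inferInstance
  rcases two_cases hD' T with h | h | h
  · exact Or.inl (cyclic_case hO T h)
  · exact elementary_case hW hD' hO T h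
  · exact h.elim (quaternion_case hD' hO T)

end Cfsg.Lib.ConjEqual
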