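import Cfsg.Agent.Lib.ConjEqual.Basic
import Cfsg.Agent.Lib.Group.MinimalNormalFactor
import Cfsg.Agent.S0721
import Cfsg.Agent.Lib.AbTwo.Basic

/-!
# An elementary abelian Sylow two-subgroup: normal, or a simple socle of odd index
-/

set_option autoImplicit false
set_option linter.unusedSectionVars false
set_option linter.style.haveILetI false

namespace Cfsg.Lib.ConjEqual

open Subgroup Cfsg
open scoped commutatorElement

universe u

variable {G : Type u} [Group G] [Finite G]

theorem eq_bot_of_odd (hO : Cfsg.oddCore G = ⊥) {N : Subgroup G} (hN : N.Normal)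
    (hodd : ¬ 2 ∣ Nat.card N) : N = ⊥ := by
  haveI : Fact (Nat.Prime 2) := ⟨Nat.prime_two⟩
  exact le_bot_iff.1 (hO ▸ Cfsg.Lib.Core.le_pPrimeCore' (p := 2) hN
    (Cfsg.Lib.Core.coprime_iff_not_dvd'.2 hodd))

theorem socle_cases (hD : HD G) (hO : Cfsg.oddCore G = ⊥) (T : Sylow 2 G)
    (hel : Cfsg.IsElementaryAbelian 2 (T : Subgroup G)) [Nontrivial G] :
    (T : Subgroup G).Normal ∨
      ∃ N : Subgroup G, N.Normal ∧ IsSimpleGroup ↥N ∧ ¬ IsMulCommutative ↥N ∧
        centralizer (N : Set G) = ⊥ ∧ Odd N.index ∧ (T : Subgroup G) ≤ N := by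
  classical
  haveI : Fact (Nat.Prime 2) := ⟨Nat.prime_two⟩
  obtain ⟨N, hNn, -, hN1, hmin⟩ := Cfsg.Lib.Group.MinFactor.exists_minimal_normal
    (K := (⊤ : Subgroup G)) inferInstance top_ne_bot
  haveI := hNn
  have hev : 2 ∣ Nat.card N := by
    by_contra h
    exact hN1 (eq_bot_of_odd hO hNn h)
  have hTN := sylow_le_of_dvd hD N hev T hel
  by_cases hab : ⁅N, N⁆ = ⊥
  · -- `N` is the Sylow subgroup
    left
    have hc : ∀ a ∈ N, ∀ b ∈ N, a * b = b * a := fun a ha b hb => by
      have h : ⁅a, b⁆ = 1 := mem_bot.1 (hab ▸ commutator_mem_commutator ha hb)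
      exact commutatorElement_eq_one_iff_mul_comm.1 h
    let W : Subgroup G :=
      { carrier := {x | x ∈ N ∧ x * x = 1}
        one_mem' := ⟨one_mem _, one_mul 1⟩
        mul_mem' := fun {a b} ha hb => ⟨mul_mem ha.1 hb.1, by
          rw [mul_assoc, ← mul_assoc b, hc b hb.1 a ha.1, mul_assoc a b, hb.2, mul_one, ha.2]⟩
        inv_mem' := fun {a} ha => ⟨inv_mem ha.1, by rw [← _root_.mul_inv_rev, ha.2, inv_one]⟩ }
    have hWn : W.Normal := ⟨fun x hx g => ⟨hNn.conj_mem x hx.1 g, by
      rw [show g * x * g⁻¹ * (g * x * g⁻¹) = g * (x * x) * g⁻¹ by group, hx.2, mul_one, mul_inv_cancel]⟩⟩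
    have hW1 : W ≠ ⊥ := by
      obtain ⟨x, hx⟩ := exists_prime_orderOf_dvd_card' 2 hev
      intro h
      have hxW : (x : G) ∈ W := ⟨x.2, by
        rw [← pow_two, ← hx, ← orderOf_coe, pow_orderOf_eq_one]⟩
      rw [h, mem_bot] at hxW
      rw [← orderOf_coe, hxW, orderOf_one] at hx
      omega
    have hWN := hmin W hWn (fun x hx => hx.1) hW1
    have hpN : IsPGroup 2 N := fun x => ⟨1, Subtype.ext (by
      have hx : (x : G) ∈ W := hWN.symm ▸ x.2
      rw [pow_one, SubgroupClass.coe_pow, pow_two, hx.2, coe_one])⟩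
    rw [← T.is_maximal' hpN hTN]
    exact hNn
  right
  obtain ⟨T₀, hgrp, m, hs, hm, ⟨e⟩⟩ := Cfsg.Agent.S0721.result N hN1 fun M hM hle =>
    (em (M = ⊥)).imp_right (hmin M hM hle)
  haveI := hs
  have hna₀ : ¬ ∀ a b : T₀, a * b = b * a := fun h => hab (by
    rw [eq_bot_iff, commutator_le]
    intro a ha b hb
    rw [mem_bot, commutatorElement_eq_one_iff_mul_comm]
    have := e.injective (show e (⟨a, ha⟩ * ⟨b, hb⟩) = e (⟨b, hb⟩ * ⟨a, ha⟩) by
      rw [map_mul, map_mul]; funext i; exact h _ _)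
    exact congrArg Subtype.val this)
  haveI : Finite T₀ := by
    haveI : Finite (Fin m → T₀) := Finite.of_equiv _ e.toEquiv
    exact Finite.of_injective (fun a : T₀ => fun _ : Fin m => a) fun a b h => congrFun h ⟨0, hm⟩
  have hev₀ : 2 ∣ Nat.card T₀ := by
    by_contra h
    haveI := Cfsg.Agent.S0205.result (G := T₀) (Nat.odd_iff.2 (by omega))
    exact hna₀ (IsSimpleGroup.comm_iff_isSolvable.2 inferInstance)
  -- a single factor
  have hm1 : m = 1 := by
    by_contra hne
    obtain ⟨u, hu⟩ := exists_prime_orderOf_dvd_card' 2 hev₀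
    have hu1 : u ≠ 1 := fun h => by rw [h, orderOf_one] at hu; omega
    have hu2 : u * u = 1 := by rw [← pow_two, ← hu, pow_orderOf_eq_one]
    obtain ⟨v, hv⟩ : ∃ v : T₀, v * u ≠ u * v := by
      by_contra h
      push Not at h
      have hc : u ∈ center T₀ := mem_center_iff.2 h
      rcases IsSimpleGroup.eq_bot_or_eq_top_of_normal (center T₀) inferInstance with h' | h'
      · rw [h', mem_bot] at hc; exact hu1 hc
      · exact hna₀ fun a b => (mem_center_iff.1 (h'.symm ▸ mem_top b : b ∈ center T₀) a)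
    let i₀ : Fin m := ⟨0, hm⟩
    let i₁ : Fin m := ⟨1, by omega⟩
    have hi : i₁ ≠ i₀ := by simp [i₀, i₁]
    set f₁ : Fin m → T₀ := Pi.mulSingle i₀ u with hf₁
    set f₂ : Fin m → T₀ := Pi.mulSingle i₀ u * Pi.mulSingle i₁ u with hf₂
    have hof : ∀ f : Fin m → T₀, f * f = 1 → f ≠ 1 → orderOf ((e.symm f : N) : G) = 2 := fun f h h1 => by
      rw [orderOf_coe, MulEquiv.orderOf_eq]
      exact orderOf_eq_prime (by rw [pow_two, h]) h1
    have h2₀ : f₂ i₀ = u := by simp [hf₂, hi.symm]
    have h2₁ : f₂ i₁ = u := by simp [hf₂, hi]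
    have ho₁ := hof f₁ (by rw [hf₁, ← Pi.mulSingle_mul, hu2, Pi.mulSingle_one])
      (fun h => hu1 (by simpa [hf₁] using congrFun h i₀))
    have ho₂ := hof f₂ (by
      funext i
      by_cases h0 : i = i₀
      · subst h0; simp [h2₀, hu2]
      · by_cases h1 : i = i₁
        · subst h1; simp [h2₁, hu2]
        · simp [hf₂, h0, h1]) (fun h => hu1 (h2₀ ▸ congrFun h i₀))
    obtain ⟨g, hg⟩ := hD 2 Nat.prime_two (zpowers ((e.symm f₁ : N) : G)) (zpowers ((e.symm f₂ : N) : G))
      (IsPGroup.of_card (n := 1) (by rw [Nat.card_zpowers, ho₁, pow_one]))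
      (IsPGroup.of_card (n := 1) (by rw [Nat.card_zpowers, ho₂, pow_one]))
      (by rw [Nat.card_zpowers, Nat.card_zpowers, ho₁, ho₂])
    have hmap : MulAut.conjNormal g (e.symm f₁) = e.symm f₂ := by
      have hm : g * ((e.symm f₁ : N) : G) * g⁻¹ ∈ zpowers ((e.symm f₂ : N) : G) :=
        hg ▸ ⟨_, mem_zpowers _, rfl⟩
      obtain ⟨i, hi', he⟩ := (mem_zpowers_iff_mem_range_orderOf
        (x := ((e.symm f₂ : N) : G))).1 hm |> Finset.mem_image.1
      refine Subtype.ext ?_
      rw [MulAut.conjNormal_apply, ← he]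
      rw [Finset.mem_range, ho₂] at hi'
      interval_cases i
      · exfalso
        rw [pow_zero] at he
        have h := conj_eq_one_iff.1 he.symm
        rw [h, orderOf_one] at ho₁
        omega
      · rw [pow_one]
    let φ : MulAut (Fin m → T₀) := e.symm.trans ((MulAut.conjNormal g : MulAut N).trans e)
    have hφ : φ f₁ = f₂ := by
      show e (MulAut.conjNormal g (e.symm f₁)) = f₂
      rw [hmap, e.apply_symm_apply]
    have hcard : Nat.card (centralizer ({f₁} : Set (Fin m → T₀))) =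
        Nat.card (centralizer ({f₂} : Set (Fin m → T₀))) := by
      refine Nat.card_congr (φ.toEquiv.subtypeEquiv fun a => ?_)
      simp only [mem_centralizer_singleton_iff, MulEquiv.toEquiv_eq_coe, EquivLike.coe_coe, ← hφ]
      rw [← map_mul, ← map_mul, φ.injective.eq_iff]
    have hlt : centralizer ({f₂} : Set (Fin m → T₀)) < centralizer {f₁} := by
      refine lt_of_le_of_ne (fun a ha => ?_) fun h => ?_
      · rw [mem_centralizer_singleton_iff] at ha ⊢
        funext i
        by_cases h0 : i = i₀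
        · subst h0
          have := congrFun ha i₀
          simpa [hf₁, h2₀] using this
        · simp [hf₁, h0]
      · have hm : (Pi.mulSingle i₁ v : Fin m → T₀) ∈ centralizer ({f₁} : Set (Fin m → T₀)) := by
          rw [mem_centralizer_singleton_iff]
          funext i
          by_cases h0 : i = i₀
          · subst h0; simp [hi.symm]
          · simp [hf₁, h0]
        rw [← h, mem_centralizer_singleton_iff] at hm
        have := congrFun hm i₁
        simp [h2₁] at this
        exact hv this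
    exact absurd hcard.symm (Nat.ne_of_lt (Set.ncard_lt_ncard (SetLike.coe_ssubset_coe.2 hlt) |>
      fun h => by simpa [← Nat.card_coe_set_eq] using h))
  subst hm1
  let e₁ : N ≃* T₀ := e.trans (MulEquiv.funUnique (Fin 1) T₀)
  haveI : IsSimpleGroup ↥N := e₁.isSimpleGroup
  have hna : ¬ IsMulCommutative ↥N := fun h => hna₀ fun a b => e₁.symm.injective (by
    rw [map_mul, map_mul]; exact h.is_comm.comm _ _)
  refine ⟨N, hNn, inferInstance, hna, ?_, ?_, hTN⟩
  · -- an involution in the centralizer would be central in `N`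
    refine eq_bot_of_odd hO inferInstance fun h => ?_
    obtain ⟨c, hc⟩ := exists_prime_orderOf_dvd_card' 2 h
    rw [← orderOf_coe] at hc
    have hcN := mem_of_orderOf hD N Nat.prime_two hev hc
    have hcen : (⟨c, hcN⟩ : N) ∈ center N := mem_center_iff.2 fun a =>
      Subtype.ext (mem_centralizer_iff.1 c.2 a a.2)
    rcases IsSimpleGroup.eq_bot_or_eq_top_of_normal (center N) inferInstance with h' | h'
    · rw [h', mem_bot] at hcen
      rw [show (c : G) = 1 from congrArg Subtype.val hcen, orderOf_one] at hc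
      omega
    · exact hna ⟨⟨fun a b => mem_center_iff.1 (h'.symm ▸ mem_top b : b ∈ center N) a⟩⟩
  · rw [Nat.odd_iff]
    by_contra h
    exact T.not_dvd_index ((Nat.dvd_of_mod_eq_zero (by omega)).trans (index_dvd_of_le hTN))

end Cfsg.Lib.ConjEqual
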