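import Cfsg.Agent.Lib.ConjEqual.Main
import Cfsg.Agent.Lib.Invol.Basic
import Cfsg.Agent.S0251
import Cfsg.Agent.S0253
import Cfsg.Agent.S0811
import Cfsg.Agent.S0812
import Cfsg.Agent.S2131
import Cfsg.Agent.S4273

/-!
# Groups whose subgroups of equal order are conjugate
-/

set_option autoImplicit false
set_option linter.unusedSectionVars false
set_option linter.style.haveILetI false

namespace Cfsg.Lib.ConjEqual

open Subgroup Cfsg Matrix
open Cfsg.Lib

universe u

/-- Subgroups of equal order are conjugate. -/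
def HC (G : Type*) [Group G] : Prop :=
  ∀ H K : Subgroup G, Nat.card H = Nat.card K → ∃ g : G, K = H.map (MulAut.conj g).toMonoidHom

variable {G : Type u} [Group G] [Finite G]

theorem HC.hd (hC : HC G) : HD G := fun _ _ H K _ _ h => hC H K h

theorem HC.quotient (hC : HC G) (N : Subgroup G) [N.Normal] : HC (G ⧸ N) := by
  intro H K h
  obtain ⟨g, hg⟩ := hC (H.comap (QuotientGroup.mk' N)) (K.comap (QuotientGroup.mk' N)) (by
    rw [Core.card_comap_eq _ (QuotientGroup.mk'_surjective N), Core.card_comap_eq _ (QuotientGroup.mk'_surjective N), h])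
  refine ⟨(g : G ⧸ N), ?_⟩
  have h1 := congrArg (Subgroup.map (QuotientGroup.mk' N)) hg
  rw [map_comap_eq_self_of_surjective (QuotientGroup.mk'_surjective N), Subgroup.map_map] at h1
  rw [h1]
  conv_rhs => rw [← map_comap_eq_self_of_surjective (QuotientGroup.mk'_surjective N) H, Subgroup.map_map]
  congr 1

theorem HC.of_equiv {H : Type*} [Group H] (hC : HC G) (e : G ≃* H) : HC H := by
  intro A B h
  obtain ⟨g, hg⟩ := hC (A.comap e.toMonoidHom) (B.comap e.toMonoidHom) (by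
    rw [Core.card_comap_eq e.toMonoidHom e.surjective, Core.card_comap_eq e.toMonoidHom e.surjective, h])
  refine ⟨e g, ?_⟩
  have h1 := congrArg (Subgroup.map e.toMonoidHom) hg
  rw [map_comap_eq_self_of_surjective (by exact e.surjective), Subgroup.map_map] at h1
  rw [h1]
  conv_rhs => rw [← map_comap_eq_self_of_surjective (f := e.toMonoidHom) (by exact e.surjective) A, Subgroup.map_map]
  congr 1
  ext x
  simp

/-- A cyclic and a dihedral subgroup of the same order are not conjugate. -/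
theorem false_of_inverting {H : Type*} [Group H] [Finite H] (hC : HC H) {a x w : H}
    (ha : orderOf a = 2 * orderOf x) (hw : w * w = 1) (hwx : w * x * w⁻¹ = x⁻¹) (hx2 : x ^ 2 ≠ 1) :
    False := by
  have hwm : w ∉ zpowers x := by
    rintro ⟨i, rfl⟩
    refine hx2 ?_
    rw [pow_two]
    nth_rewrite 2 [show x = x ^ i * x * (x ^ i)⁻¹ by group]
    rw [hwx, mul_inv_cancel]
  set φ := Invol.dihedralHom (orderOf x) (pow_orderOf_eq_one x) hw hwx with hφ
  have hinj : Function.Injective φ := Invol.dihedralHom_injective hw hwx hwm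
  have hc : Nat.card φ.range = 2 * orderOf x := by
    rw [← Nat.card_congr (MonoidHom.ofInjective hinj).toEquiv, DihedralGroup.nat_card]
  obtain ⟨g, hg⟩ := hC (zpowers a) φ.range (by rw [Nat.card_zpowers, ha, hc])
  have hx : x ∈ φ.range := ⟨DihedralGroup.r (1 : ZMod (orderOf x)), by
    rw [hφ, Invol.dihedralHom_r]
    exact (zpow_eq_zpow_iff_modEq.mpr ((ZMod.intCast_eq_intCast_iff _ _ _).mp
      (by rw [ZMod.intCast_zmod_cast, Int.cast_one]))).trans (zpow_one x)⟩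
  have hwr : w ∈ φ.range := ⟨DihedralGroup.sr (0 : ZMod (orderOf x)), by
    rw [hφ, Invol.dihedralHom_sr, ZMod.cast_zero, zpow_zero, mul_one]⟩
  rw [hg, MonoidHom.map_zpowers] at hx hwr
  obtain ⟨i, hi⟩ := hx
  obtain ⟨j, hj⟩ := hwr
  have hc : w * x = x * w := by
    rw [← hi, ← hj]
    exact ((Commute.refl _).zpow_zpow j i).eq
  rw [hc, mul_inv_cancel_right] at hwx
  refine hx2 ?_
  rw [pow_two]
  nth_rewrite 2 [hwx]
  exact mul_inv_cancel x

theorem alternating_five_inverting :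
    ∃ σ τ : alternatingGroup (Fin 5), σ ≠ 1 ∧ σ ^ 3 = 1 ∧ τ * τ = 1 ∧ τ * σ * τ⁻¹ = σ⁻¹ := by
  refine ⟨⟨Equiv.swap 0 1 * Equiv.swap 1 2, Equiv.Perm.mem_alternatingGroup.2 (by decide)⟩,
    ⟨Equiv.swap 0 1 * Equiv.swap 3 4, Equiv.Perm.mem_alternatingGroup.2 (by decide)⟩, ?_, ?_, ?_, ?_⟩
  all_goals decide

theorem not_j1 (hC : HC G) (hJ : Cfsg.IsJ1 G) : False := by
  haveI : Fact (Nat.Prime 3) := ⟨Nat.prime_three⟩
  haveI := hJ.1
  obtain ⟨t, -, ⟨e⟩⟩ := Cfsg.Agent.S2131.result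
  obtain ⟨σ, τ, hσ1, hσ3, hτ, hτσ⟩ := alternating_five_inverting
  haveI : IsSimpleGroup ↥Spor.J1 := Cfsg.Lib.H3.JankoOne.simple_J
  haveI : Finite ↥Spor.J1 :=
    Nat.finite_of_card_ne_zero (by rw [Cfsg.Lib.H3.JankoOne.card_J]; norm_num)
  obtain ⟨φ⟩ := Cfsg.Agent.S4273.result (G := ↥Spor.J1) (H := G) Cfsg.Lib.H3.JankoOne.card_J hJ.2
  let j : Multiplicative (ZMod 2) × ↥(alternatingGroup (Fin 5)) →* G :=
    φ.toMonoidHom.comp ((centralizer ({t} : Set ↥Spor.J1)).subtype.comp e.symm.toMonoidHom)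
  have hj : Function.Injective j :=
    φ.injective.comp ((centralizer ({t} : Set ↥Spor.J1)).subtype_injective.comp e.symm.injective)
  refine false_of_inverting hC (a := j (Multiplicative.ofAdd 1, σ)) (x := j (1, σ)) (w := j (1, τ))
    ?_ ?_ ?_ ?_
  · rw [orderOf_injective j hj, orderOf_injective j hj, Prod.orderOf_mk, Prod.orderOf_mk, orderOf_one,
      orderOf_eq_prime hσ3 hσ1, orderOf_ofAdd_eq_addOrderOf, ZMod.addOrderOf_one]
    rfl
  · rw [← map_mul, ← map_one j]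
    exact congrArg j (Prod.ext (mul_one 1) hτ)
  · rw [← map_mul, ← map_inv, ← map_mul, ← map_inv]
    exact congrArg j (Prod.ext (by simp) hτσ)
  · rw [← map_pow, ← map_one j]
    intro h
    have h2 : σ ^ 2 = 1 := congrArg Prod.snd (hj h)
    exact hσ1 (by rw [show σ = σ ^ 3 * (σ ^ 2)⁻¹ by group, hσ3, h2, inv_one, one_mul])

theorem not_psl_two {F : Type*} [Field F] [Fintype F] (hC : HC (ProjectiveSpecialLinearGroup (Fin 2) F))
    (h8 : Fintype.card F % 8 = 3 ∨ Fintype.card F % 8 = 5) (h11 : 11 ≤ Fintype.card F) : False := by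
  have hg : Nat.gcd 2 (Fintype.card F - 1) = 2 := Nat.gcd_eq_left (by omega)
  have key : ∃ (k : ℕ) (H : Subgroup (ProjectiveSpecialLinearGroup (Fin 2) F)),
      2 ∣ k ∧ 6 ≤ k ∧ Nonempty (H ≃* DihedralGroup k) := by
    rcases h8 with h | h
    · obtain ⟨H, -, hH⟩ := Cfsg.Agent.S0811.result (F := F) rfl (by simp; omega)
      rw [hg] at hH
      exact ⟨_, H, by omega, by omega, hH⟩
    · obtain ⟨H, -, hH⟩ := Cfsg.Agent.S0812.result (F := F) rfl (by simp; omega)
      rw [hg] at hH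
      exact ⟨_, H, by omega, by omega, hH⟩
  obtain ⟨k, H, ⟨m, rfl⟩, h6, ⟨e⟩⟩ := key
  haveI : NeZero (2 * m) := ⟨by omega⟩
  let j : DihedralGroup (2 * m) →* ProjectiveSpecialLinearGroup (Fin 2) F := H.subtype.comp e.symm.toMonoidHom
  have hj : Function.Injective j := H.subtype_injective.comp e.symm.injective
  have hm : orderOf ((DihedralGroup.r 1 : DihedralGroup (2 * m)) ^ 2) = m := by
    rw [orderOf_pow, DihedralGroup.orderOf_r_one, Nat.gcd_mul_right_left, Nat.mul_div_cancel_left _ two_pos]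
  refine false_of_inverting hC (a := j (DihedralGroup.r 1)) (x := j (DihedralGroup.r 1 ^ 2))
    (w := j (DihedralGroup.sr 0)) ?_ ?_ ?_ ?_
  · rw [orderOf_injective j hj, orderOf_injective j hj, hm, DihedralGroup.orderOf_r_one]
  · rw [← map_mul, DihedralGroup.sr_mul_self, map_one]
  · rw [← map_mul, ← map_inv, ← map_mul, ← map_inv]
    refine congrArg j ?_
    rw [pow_two, DihedralGroup.r_mul_r, DihedralGroup.sr_mul_r, DihedralGroup.inv_sr, DihedralGroup.sr_mul_sr,
      DihedralGroup.inv_r]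
    simp
  · rw [← map_pow, ← map_one j]
    intro h
    have h2 := orderOf_dvd_of_pow_eq_one (hj h)
    rw [hm] at h2
    have := Nat.le_of_dvd two_pos h2
    omega

/-- The list, given the structure of the nonsolvable involution centralizers. -/
theorem strong_of_cent (hW : CentHyp.{u}) (hC : HC G) :
    (IsCyclic (G ⧸ Cfsg.oddCore G) ∧ IsPGroup 2 (G ⧸ Cfsg.oddCore G)) ∨
    Nonempty (G ⧸ Cfsg.oddCore G ≃* Cfsg.affineGroup (GaloisField 2 3)) ∨
    Nonempty (G ⧸ Cfsg.oddCore G ≃* Cfsg.semiaffineGroup (GaloisField 2 3)) ∨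
    Nonempty (G ⧸ Cfsg.oddCore G ≃* Cfsg.semiaffineGroup (GaloisField 2 5)) ∨
    Nonempty (G ⧸ Cfsg.oddCore G ≃* Matrix.ProjectiveSpecialLinearGroup (Fin 2) (GaloisField 2 3)) ∨
    Nonempty (G ⧸ Cfsg.oddCore G ≃* MulAut (Matrix.ProjectiveSpecialLinearGroup (Fin 2) (GaloisField 2 5))) ∨
    Nonempty (G ⧸ Cfsg.oddCore G ≃* alternatingGroup (Fin 4)) ∨
    Nonempty (G ⧸ Cfsg.oddCore G ≃* alternatingGroup (Fin 5)) ∨
    Nonempty (G ⧸ Cfsg.oddCore G ≃* Matrix.SpecialLinearGroup (Fin 2) (ZMod 3)) ∨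
    Nonempty (G ⧸ Cfsg.oddCore G ≃* Matrix.SpecialLinearGroup (Fin 2) (ZMod 5)) := by
  have hC' := hC.quotient (Cfsg.oddCore G)
  rcases list_of_cent hW hC.hd with h | h | h | h | h | h | h | ⟨r, hr, hr8, h⟩
  · exact Or.inl h
  · exact Or.inr (Or.inl h)
  · exact Or.inr (Or.inr (Or.inl h))
  · exact Or.inr (Or.inr (Or.inr (Or.inl h)))
  · exact (not_j1 hC' h).elim
  · exact Or.inr (Or.inr (Or.inr (Or.inr (Or.inl h))))
  · exact Or.inr (Or.inr (Or.inr (Or.inr (Or.inr (Or.inl h)))))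
  haveI := hr
  have hr2 := hr.out.two_le
  have hbig : r = 3 ∨ r = 5 ∨ 11 ≤ r := by omega
  have hz : Fintype.card (ZMod r) = r := ZMod.card r
  letI : Fintype (GaloisField r 3) := Fintype.ofFinite _
  have hg : Fintype.card (GaloisField r 3) = r ^ 3 := by
    rw [← Nat.card_eq_fintype_card, GaloisField.card r 3 (by norm_num)]
  have hg11 : 11 ≤ r ^ 3 := by
    rcases hbig with rfl | rfl | h
    · norm_num
    · norm_num
    · exact h.trans (Nat.le_self_pow (by norm_num) r)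
  have hg8 : r ^ 3 % 8 = 3 ∨ r ^ 3 % 8 = 5 := by
    rw [Nat.pow_mod]
    rcases hr8 with h | h <;> rw [h] <;> norm_num
  rcases h with ⟨⟨e⟩⟩ | ⟨⟨e⟩⟩ | ⟨⟨e⟩⟩ | ⟨⟨e⟩⟩
  · rcases hbig with rfl | rfl | h
    · exact Or.inr (Or.inr (Or.inr (Or.inr (Or.inr (Or.inr (Or.inl
        ((Cfsg.Agent.S0251.result hz).elim fun ψ => ⟨e.trans ψ⟩)))))))
    · exact Or.inr (Or.inr (Or.inr (Or.inr (Or.inr (Or.inr (Or.inr (Or.inl
        ((Cfsg.Agent.S0253.result hz).elim fun ψ => ⟨e.trans ψ⟩))))))))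
    · exact (not_psl_two (hC'.of_equiv e) (by rwa [hz]) (by rwa [hz])).elim
  · exact (not_psl_two (hC'.of_equiv e) (by rwa [hg]) (by rwa [hg])).elim
  · rcases hbig with rfl | rfl | h
    · exact Or.inr (Or.inr (Or.inr (Or.inr (Or.inr (Or.inr (Or.inr (Or.inr (Or.inl ⟨e⟩))))))))
    · exact Or.inr (Or.inr (Or.inr (Or.inr (Or.inr (Or.inr (Or.inr (Or.inr (Or.inr ⟨e⟩))))))))
    · exact (not_psl_two ((hC'.of_equiv e).quotient _) (by rwa [hz]) (by rwa [hz])).elim
  · exact (not_psl_two ((hC'.of_equiv e).quotient _) (by rwa [hg]) (by rwa [hg])).elim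

end Cfsg.Lib.ConjEqual
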